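import Cfsg.Agent.H856.F23.Vals
import Cfsg.Agent.H511.Ore.WRow
import Cfsg.Agent.H511.Ore.Tools
import Cfsg.Agent.H839.SeventeenMain
import Cfsg.Agent.H961.SepFi23
import Cfsg.Agent.S1697

/-!
# `Fi₂₃`: degrees of the characters that vanish neither at the elements of order 17 nor at `7 × (1234)` (helper856)

`deg_ge` : they are at least 49335. The divisors of `|Fi₂₃|` below 49335 with the possible residues modulo
7, 11, 13, 17, 23 are 288, 2277, 6578, 9315, 32384, and these are excluded by the quadratic relation.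
-/

set_option autoImplicit false
set_option maxRecDepth 100000

namespace Cfsg.Agent.H856.F23

open Cfsg Subgroup Cfsg.Agent.Lib.PermNet Cfsg.Agent.Fischer.Fi23Hom Cfsg.Agent.LThreeFi23
open Cfsg.Agent.Characters.Core
open Cfsg.Spor (Fi23)
open Cfsg.Agent.H511.Ore

theorem card17 : Nat.card (centralizer ({elw y17} : Set Fi23)) = 17 := by
  have h := H839.Fi23.self_cent17
  rw [zpowers_eq_closure, centralizer_closure] at h
  rw [h, ← zpowers_eq_closure]
  exact H839.Fi23.card_y17

/-- the values at an element of order 17 -/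
theorem vals17 (χ : IrrCharacter Fi23) : ∃ c : ℤ, (c = 0 ∨ c = 1 ∨ c = -1) ∧ (χ : Fi23 → ℂ) (elw y17) = c ∧
    ∀ a : ℤ, (χ : Fi23 → ℂ) 1 = a → (17 : ℤ) ∣ a - c := by
  have : Fact (Nat.Prime 17) := ⟨by norm_num⟩
  have := H713.Spor.Fi23.finite_fi23
  obtain ⟨P, hPy, hP⟩ := exists_syl (G := Fi23) (p := 17) H839.Fi23.card_y17 (by rw [card_G]; norm_num)
    (by rw [card_G]; norm_num)
  have hK : SmallSimple.ThetaSetup.IsComp 17 (P : Subgroup Fi23) ⊥ := isComp_of hPy hP
    (fun x hx => by rw [mem_bot.1 hx]; simp)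
    (fun w hw => by
      have h1 : w ∈ centralizer ((zpowers (elw y17) : Subgroup Fi23) : Set Fi23) :=
        H839.Fi23.mem_cent_zpowers.2 hw
      rw [H839.Fi23.self_cent17] at h1
      obtain ⟨i, hi⟩ := h1
      exact ⟨i, 1, one_mem _, by rw [mul_one]; exact hi.symm⟩)
    (by rw [card_bot]; norm_num)
  have he := relIndex_of_card (P := P) (c := 17) (n := 272) (e := 16)
    (by rw [hPy, H839.Fi23.self_cent17]; exact H839.Fi23.card_y17)
    (by rw [hPy]; exact H839.Fi23.sc17.1) (by norm_num) (by norm_num)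
  obtain ⟨c, θ, hc, h1, h2⟩ := blk_one hK hP (fun θ n hn => by
    funext y
    rw [SmallSimple.ThetaOrtho.tw_apply hK _ hn]
    exact congrArg _ (Subsingleton.elim _ _)) he χ
  have h3 : (θ : (⊥ : Subgroup Fi23) → ℂ) 1 = 1 :=
    Characters.CCBasic.irr_apply_one_of_comm (fun a b => Subsingleton.elim _ _) θ.2
  refine ⟨c, hc, ?_, fun a ha => ?_⟩
  · have hy : elw y17 ∈ (P : Subgroup Fi23) := by rw [hPy]; exact mem_zpowers _
    have h4 := h2 ⟨elw y17, hy⟩ (fun h => y17_ne (congrArg Subtype.val h)) 1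
    rw [h3, mul_one] at h4
    simpa using h4
  · obtain ⟨z, hz, h⟩ := h1 1
    rw [h3, mul_one, OneMemClass.coe_one, ha] at h
    exact dvd_of_integral (q := 17) (by norm_num) ⟨z, hz, h⟩

/-- the element of order 28 -/
noncomputable def y28 : Fi23 := elw y7 * (el .g * (el .j * el .z))

theorem f5_4 : f5 (Equiv.swap 2 3 * (Equiv.swap 1 2 * Equiv.swap 0 1)) = el .g * (el .j * el .z) := by
  rw [map_mul, map_mul, f5_g, f5_j, f5_z]

/-- the values at `y28` -/
theorem vals28 (χ : IrrCharacter Fi23) : ∃ (c : ℤ) (i : Fin 7), (c = 0 ∨ c = 1 ∨ c = -1) ∧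
    (χ : Fi23 → ℂ) y28 = ((c * v4 i : ℤ) : ℂ) ∧ ∀ a : ℤ, (χ : Fi23 → ℂ) 1 = a → (7 : ℤ) ∣ a - c * v1 i := by
  obtain ⟨m, c, i, hc, h1, h2, h3⟩ := vals7 χ
  refine ⟨c, i, hc, ?_, fun a ha => ?_⟩
  · have := h3 (elw y7) (mem_zpowers _) y7_ne (Equiv.swap 2 3 * (Equiv.swap 1 2 * Equiv.swap 0 1))
    rw [f5_4, tab_v4] at this
    exact this
  · have h4 := h2 1
    simp only [tab_v1] at h4
    have h5 : a = ∑ j : Fin 7, (m j : ℤ) * v1 j := by
      have h6 := h1 1
      simp only [tab_v1] at h6
      rw [map_one, ha] at h6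
      exact_mod_cast h6
    rw [h5]
    exact h4

/-- the residues of the degrees -/
def PD (f : ℕ) : Bool :=
  Nat.ble f 49334 && ((Nat.beq (f % 17) 1 || Nat.beq (f % 17) 16) && ([1, 2, 5, 6].elem (f % 7) &&
    ([0, 1, 12, 2, 11, 6, 7].elem (f % 13) && [0, 1, 10, 2, 9].elem (f % 11))))

theorem simp23 : IsSimpleGroup Fi23 := S1697.result.1

theorem not_comm23 : ¬ IsMulCommutative Fi23 := by
  intro h
  have h1 : el .j * el .z = el .z * el .j := mul_comm' _ _
  have h2 := jz_cube
  have hj := el_sq .j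
  have hz := el_sq .z
  have e : el .j * el .z * (el .j * el .z) = 1 := by
    calc el .j * el .z * (el .j * el .z) = el .j * (el .z * el .j) * el .z := by group
      _ = el .j * (el .j * el .z) * el .z := by rw [h1]
      _ = (el .j * el .j) * (el .z * el .z) := by group
      _ = 1 := by rw [hj, hz, one_mul]
  rw [e, one_mul] at h2
  exact jz_ne_one h2

open Cfsg.Agent.H653.Sieve Cfsg.Agent.H651.Two in
/-- the column of the prime 23 -/
def cd23 : CD := ⟨23, 1, 11, 2, [(0, 0), (1, 2), (11, -1), (12, 1), (22, -2)], 2, true⟩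

open Cfsg.Agent.H653.Sieve Cfsg.Agent.H651.Two in
theorem cd23_has : cd23.Has Fi23 := by
  have := H713.Spor.Fi23.finite_fi23
  have : Fact (Nat.Prime 23) := ⟨by norm_num⟩
  obtain ⟨x, hx⟩ := exists_prime_orderOf_dvd_card' (G := Fi23) 23 (by rw [card_G]; norm_num)
  refine ⟨by norm_num [cd23], x, hx, ?_⟩
  have h := (Cfsg.Agent.H961.SepFi23.data23 (R := zpowers x) (by rw [Nat.card_zpowers, hx])).1
  rwa [zpowers_eq_closure, centralizer_closure] at h

/-- the factorization -/
def LF : List (ℕ × ℕ) := [(2, 18), (3, 13), (5, 2), (7, 1), (11, 1), (13, 1), (17, 1), (23, 1)]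

/-- the excluded degrees -/
def ex5 : List ℕ := [288, 2277, 6578, 9315, 32384]

theorem chk_div : Cfsg.Agent.H653.Sieve.allDiv (49335 * 49335) (tstOn PD 0 ex5 [cd23]) LF 1 = true := by
  decide +kernel

theorem noDeg : NoDeg Fi23 ex5 := by
  intro χ hχ
  have hf := Blocks.Knorr.charDegree_eq χ.2
  obtain ⟨A, B, T, -, -, -, hd⟩ := dat χ hf
  simp only [ex5, List.mem_cons, List.not_mem_nil, or_false] at hχ
  rcases hχ with h | h | h | h | h <;> rw [h] at hd
  · exact not_dat (by norm_num) (fun A hA => by omega) (by norm_num) (by norm_num) (by norm_num)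
      chk288 hd
  · exact not_dat (by norm_num) (fun A hA => by omega) (by norm_num) (by norm_num) (by norm_num)
      chk2277 hd
  · exact not_dat (by norm_num) (fun A hA => by omega) (by norm_num) (by norm_num) (by norm_num)
      chk6578 hd
  · exact not_dat (by norm_num) (fun A hA => by omega) (by norm_num) (by norm_num) (by norm_num)
      chk9315 hd
  · exact not_dat (by norm_num) (fun A hA => by omega) (by norm_num) (by norm_num) (by norm_num)
      chk32384 hd

theorem degOn : DegOn Fi23 PD 49335 := by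
  have := H713.Spor.Fi23.finite_fi23
  have := simp23
  exact degOn_of_check not_comm23 4089470473293004800 card_G LF (by decide +kernel) (by decide +kernel) [cd23]
    (by decide +kernel) (fun d hd => by rw [List.mem_singleton.1 hd]; exact cd23_has) minDeg_zero noDeg chk_div

/-- **the degrees of the characters that do not vanish at `y17` and `y28`** -/
theorem deg_ge (χ : IrrCharacter Fi23) (h1 : (χ : Fi23 → ℂ) ≠ 1) (hx : (χ : Fi23 → ℂ) (elw y17) ≠ 0)
    (hy : (χ : Fi23 → ℂ) y28 ≠ 0) : 49335 ≤ charDegree (χ : Fi23 → ℂ) := by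
  by_contra hlt
  push Not at hlt
  have hf := Blocks.Knorr.charDegree_eq χ.2
  refine absurd (degOn χ h1 ?_) (by omega)
  set f := charDegree (χ : Fi23 → ℂ) with hfd
  obtain ⟨c, hc, h2, h3⟩ := vals17 χ
  obtain ⟨c', i, hc', h4, h5⟩ := vals28 χ
  obtain ⟨c₃, i₃, hc₃, h6, -, -⟩ := vals13 χ
  obtain ⟨c₄, i₄, hc₄, h7, -, -⟩ := vals11 χ
  have e17 := h3 f (by rw [hf]; push_cast; rfl)
  have e7 := h5 f (by rw [hf]; push_cast; rfl)
  have e13 := h6 f (by rw [hf]; push_cast; rfl)
  have e11 := h7 f (by rw [hf]; push_cast; rfl)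
  unfold PD
  simp only [Bool.and_eq_true, Bool.or_eq_true]
  refine ⟨Nat.ble_eq_true_of_le (by omega), ?_, ?_, ?_, ?_⟩
  · rcases hc with rfl | rfl | rfl
    · exfalso; apply hx; rw [h2]; simp
    · left
      have h : f % 17 = 1 := by omega
      rw [h]; rfl
    · right
      have h : f % 17 = 16 := by omega
      rw [h]; rfl
  · have hy' : c' * v4 i ≠ 0 := by
      intro h; apply hy; rw [h4, h]; simp
    have key : f % 7 = 1 ∨ f % 7 = 2 ∨ f % 7 = 5 ∨ f % 7 = 6 := by
      fin_cases i
      · replace e7 : (7 : ℤ) ∣ f - c' * 1 := e7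
        rcases hc' with rfl | rfl | rfl
        · exact absurd (zero_mul _) hy'
        · omega
        · omega
      · replace e7 : (7 : ℤ) ∣ f - c' * 1 := e7
        rcases hc' with rfl | rfl | rfl
        · exact absurd (zero_mul _) hy'
        · omega
        · omega
      · exact absurd (mul_zero _) hy'
      · exact absurd (mul_zero _) hy'
      · replace e7 : (7 : ℤ) ∣ f - c' * 5 := e7
        rcases hc' with rfl | rfl | rfl
        · exact absurd (zero_mul _) hy'
        · omega
        · omega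
      · replace e7 : (7 : ℤ) ∣ f - c' * 5 := e7
        rcases hc' with rfl | rfl | rfl
        · exact absurd (zero_mul _) hy'
        · omega
        · omega
      · exact absurd (mul_zero _) hy'
    rcases key with h | h | h | h <;> rw [h] <;> decide
  · have key : f % 13 = 0 ∨ f % 13 = 1 ∨ f % 13 = 12 ∨ f % 13 = 2 ∨ f % 13 = 11 ∨ f % 13 = 6 ∨ f % 13 = 7 := by
      fin_cases i₃
      · replace e13 : (13 : ℤ) ∣ f - c₃ * 1 := e13
        rcases hc₃ with rfl | rfl | rfl | rfl | rfl <;> omega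
      · replace e13 : (13 : ℤ) ∣ f - c₃ * 1 := e13
        rcases hc₃ with rfl | rfl | rfl | rfl | rfl <;> omega
      · replace e13 : (13 : ℤ) ∣ f - c₃ * 2 := e13
        rcases hc₃ with rfl | rfl | rfl | rfl | rfl <;> omega
    rcases key with h | h | h | h | h | h | h <;> rw [h] <;> decide
  · have key : f % 11 = 0 ∨ f % 11 = 1 ∨ f % 11 = 10 ∨ f % 11 = 2 ∨ f % 11 = 9 := by
      fin_cases i₄
      · replace e11 : (11 : ℤ) ∣ f - c₄ * 1 := e11
        rcases hc₄ with rfl | rfl | rfl | ⟨h, -⟩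
        · omega
        · omega
        · omega
        · exact absurd h (by decide)
      · replace e11 : (11 : ℤ) ∣ f - c₄ * 1 := e11
        rcases hc₄ with rfl | rfl | rfl | ⟨h, -⟩
        · omega
        · omega
        · omega
        · exact absurd h (by decide)
      · replace e11 : (11 : ℤ) ∣ f - c₄ * 2 := e11
        rcases hc₄ with rfl | rfl | rfl | ⟨-, rfl | rfl⟩ <;> omega
    rcases key with h | h | h | h | h <;> rw [h] <;> decide

end Cfsg.Agent.H856.F23
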