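import Cfsg.Agent.H856.F23.RowOf
import Cfsg.Agent.H868.Ore.Fi23A
import Cfsg.Agent.H692.Ore.Fi23C

/-!
# Row `Fi₂₃` of S4171: every element is a product of four involutions (helper856)

Bounds for 2A: helper868, for 2B and 2C: helper692; odd elements: helper29; 2-elements and frame: helper822.
-/

set_option autoImplicit false

namespace Cfsg.Agent.H856.F23

open Cfsg Subgroup
open Cfsg.Agent.H777.Ore Cfsg.Agent.H822.Ore.Fi23Row

/-- **products of four involutions in `Fi₂₃`** -/
theorem four_Fi23 {S : Type*} [Group S] (h : Spor.IsoFi23 S) : Inv4 S :=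
  four_Fi23_of (r := 0) (r' := 1) (r'' := 2) H868.Ore.Fi23A.bd_z0 (by decide) (by decide) (by decide)
    (fun _ hs hc => H692.Ore.Fi23C.two_c (by norm_num) H868.Ore.Fi23A.bd_z0
      (H692.Ore.Fi23C.isConj_W3 (by decide) (by decide) (by decide)) hs hc) h

end Cfsg.Agent.H856.F23
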