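import Cfsg.Agent.H870.Fi23Fix
import Cfsg.Agent.H713.Spor.Fi23
import Cfsg.Agent.Characters.ClassMul
import Cfsg.Agent.Characters.GaloisBasic
import Cfsg.Agent.Blocks.Blau

/-!
# `Fi₂₃`: the quadratic relation of the class of transpositions (helper856)

For an irreducible character `χ`: `31671 χ(z)² = χ(1) (χ(1) + 3510 χ(z g) + 28160 χ(z j))`, and `31671 χ(z) / χ(1)` is an
algebraic integer.
-/

set_option autoImplicit false
set_option maxRecDepth 100000

namespace Cfsg.Agent.H856.F23

open Cfsg Subgroup Cfsg.Agent.Lib.PermNet Cfsg.Agent.Fischer.Fi23Hom Cfsg.Agent.LThreeFi23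
open Cfsg.Agent.Fischer.Abstract Cfsg.Agent.H870.Fi23Fix
open Cfsg.Agent.Characters Cfsg.Agent.Characters.Core
open Cfsg.Spor (Fi23)

/-- the stabilizer of the point `0` is transitive on the other points commuting with `0` -/
theorem com_trans {q q' : ℕ} (hq : q < 31671) (hq' : q' < 31671) (h : Com 0 q) (h' : Com 0 q') (hne : q ≠ 0)
    (hne' : q' ≠ 0) : ∃ g : Fi23, rho g 0 = 0 ∧ rho g q = q' := by
  obtain ⟨R, hR, hR0⟩ := exists_R
  have h1 : ∀ x : Fi23, R.t (x • R.x0) = T (rho x 0) := by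
    intro x
    rw [R.map_smul, hR, T_eq (g := x) rfl]
  obtain ⟨u, hu⟩ := R.trans R.c
  have key : ∀ q : ℕ, q < 31671 → Com 0 q → q ≠ 0 → ∃ g : Fi23, rho g 0 = 0 ∧ rho g (rho u 0) = q := by
    intro q hq h hne
    obtain ⟨k, rfl⟩ := exists_rep hq
    have h2 : R.Com R.x0 (k • R.x0) := by
      rw [R.com_def, h1, hR, ← T_zero]
      exact (com_iff hq).1 h
    rcases R.com_x0_iff.1 h2 with h3 | ⟨m, hm, hm'⟩
    · exfalso
      apply hne
      have h4 := (smul_x0_iff hR0 k 1).1 (by rw [h3, one_smul])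
      rw [h4, map_one]
      rfl
    · refine ⟨m, ?_, ?_⟩
      · have h4 := (smul_x0_iff hR0 m 1).1 (by rw [hm, one_smul])
        rw [h4, map_one]
        rfl
      · rw [← Equiv.Perm.mul_apply, ← map_mul]
        apply (smul_x0_iff hR0 _ _).1
        rw [mul_smul, hu, hm']
  obtain ⟨g, hg, hg'⟩ := key q hq h hne
  obtain ⟨k, hk, hk'⟩ := key q' hq' h' hne'
  refine ⟨k * g⁻¹, ?_, ?_⟩
  · rw [map_mul, Equiv.Perm.mul_apply, map_inv, (Equiv.Perm.inv_eq_iff_eq).2 hg.symm, hk]
  · rw [map_mul, Equiv.Perm.mul_apply, map_inv, (Equiv.Perm.inv_eq_iff_eq).2 hg'.symm, hk']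

theorem fx_z : Fx (elw [.z]) = 3511 := by
  rw [Fx_word]
  exact Nat.eq_of_beq_eq_true (by decide +kernel)

theorem T0 : T 0 = el .z := T_zero

open scoped Classical in
theorem card_com : ((Finset.range 31671).filter fun q => Com 0 q).card = 3511 := by
  rw [← fx_z]
  unfold Fx
  rw [← Set.ncard_coe_finset]
  congr 1
  ext q
  simp only [Finset.coe_filter, Finset.mem_range, Set.mem_ofPred_eq]
  unfold Com
  rw [T0, elw_cons, elw_nil, mul_one]

theorem card_cent : Nat.card (centralizer ({el .z} : Set Fi23)) = 129123503308800 := H713.Spor.Fi23.card_z0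

theorem index_cent : (centralizer ({el .z} : Set Fi23)).index = 31671 := by
  have := H713.Spor.Fi23.finite_fi23
  have h1 := (centralizer ({el .z} : Set Fi23)).card_mul_index
  rw [card_cent, card_G] at h1
  omega

section

variable (χ : IrrCharacter Fi23)

theorem conj_eq {g x y : Fi23} (h : g * x * g⁻¹ = y) : (χ : Fi23 → ℂ) x = (χ : Fi23 → ℂ) y := by
  rw [← h]
  exact (isIrr_isClassFunction χ.2 x g).symm

/-- the value at the product with a transposition -/
noncomputable def FF (q : ℕ) : ℂ := (χ : Fi23 → ℂ) (T q * el .z)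

theorem FF_of {g : Fi23} {q q' : ℕ} (hq : q < 31671) (h0 : rho g 0 = 0) (h : rho g q = q') : FF χ q = FF χ q' := by
  have h1 : g * el .z * g⁻¹ = el .z := by
    have := T_act g (p := 0) (by norm_num)
    rw [h0, T0] at this
    exact this.symm
  unfold FF
  refine conj_eq χ (g := g) ?_
  rw [← h, T_act g hq]
  calc g * (T q * el .z) * g⁻¹ = g * T q * g⁻¹ * (g * el .z * g⁻¹) := by group
    _ = _ := by rw [h1]

theorem FF_zero : FF χ 0 = (χ : Fi23 → ℂ) 1 := by
  unfold FF
  rw [T0, el_sq]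

theorem FF_com {q : ℕ} (hq : q < 31671) (h : Com 0 q) (hne : q ≠ 0) : FF χ q = (χ : Fi23 → ℂ) (el .g * el .z) := by
  obtain ⟨g, h0, h1⟩ := com_trans hq (pt_lt .g) h (by
    rw [show (0 : ℕ) = pt .z from rfl, com_pt_iff]
    have : Nat.beq (ptw [.z] 8005) 8005 = true := by decide +kernel
    have h2 := Nat.eq_of_beq_eq_true this
    rw [ptw_eq, elw_cons, elw_nil, mul_one] at h2
    exact h2) hne (by decide)
  rw [FF_of χ hq h0 h1, FF, T_pt]

theorem FF_ncom {q : ℕ} (hq : q < 31671) (h : ¬ Com 0 q) : FF χ q = (χ : Fi23 → ℂ) (el .j * el .z) := by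
  obtain ⟨g, h0, h1⟩ := pair_trans (p := 0) (p' := 0) (by norm_num) hq (by norm_num) (pt_lt .j) h (by
    rw [show (0 : ℕ) = pt .z from rfl, com_pt_iff]
    intro h2
    have : Nat.beq (ptw [.z] 8006) 8006 = false := by decide +kernel
    rw [ptw_eq, elw_cons, elw_nil, mul_one, show rho (el .z) 8006 = 8006 from h2, Nat.beq_refl] at this
    exact Bool.noConfusion this)
  rw [FF_of χ hq h0 h1, FF, T_pt]

/-- **the quadratic relation** -/
theorem rel : 31671 * ((χ : Fi23 → ℂ) (el .z) * (χ : Fi23 → ℂ) (el .z)) = (χ : Fi23 → ℂ) 1 *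
    ((χ : Fi23 → ℂ) 1 + 3510 * (χ : Fi23 → ℂ) (el .g * el .z) + 28160 * (χ : Fi23 → ℂ) (el .j * el .z)) := by
  classical
  have := H713.Spor.Fi23.finite_fi23
  have := Fintype.ofFinite Fi23
  have h := Central.sum_char_conj_mul χ.2 (el .z) (el .z)
  have h1 : ∀ a : Fi23, (χ : Fi23 → ℂ) (a * el .z * a⁻¹ * el .z) = FF χ (rho a 0) := by
    intro a
    unfold FF
    rw [T_act a (by norm_num), T0]
  rw [Finset.sum_congr rfl fun a _ => h1 a] at h
  have h2 : ∑ a : Fi23, FF χ (rho a 0) = ∑ q ∈ Finset.range 31671, (129123503308800 : ℂ) * FF χ q := by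
    rw [← Finset.sum_fiberwise_of_maps_to (t := Finset.range 31671) (g := fun a : Fi23 => rho a 0)
      (f := fun a => FF χ (rho a 0)) (fun a _ => Finset.mem_range.2 (act_lt a (by norm_num)))]
    refine Finset.sum_congr rfl fun q hq => ?_
    have hq' := Finset.mem_range.1 hq
    rw [Finset.sum_congr rfl (g := fun _ => FF χ q) (fun a ha => by
      rw [Finset.mem_filter] at ha; rw [ha.2]), Finset.sum_const, nsmul_eq_mul]
    congr 1
    have h3 : (Finset.univ.filter fun a : Fi23 => rho a 0 = q).card =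
        Nat.card {a : Fi23 // a * el .z * a⁻¹ = T q} := by
      rw [Nat.card_eq_fintype_card, Fintype.card_subtype]
      congr 1
      ext a
      simp only [Finset.mem_filter, Finset.mem_univ, true_and]
      rw [← T0, ← T_act a (by norm_num)]
      exact ⟨fun h => by rw [h], fun h => T_inj (act_lt a (by norm_num)) hq' h⟩
    rw [h3, ClassMul.card_fiber_conj, card_cent]
    · norm_num
    · obtain ⟨k, rfl⟩ := exists_rep hq'
      exact isConj_iff.2 ⟨k, by rw [T_act k (by norm_num), T0]⟩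
  rw [h2, ← Finset.mul_sum] at h
  have h4 : ∑ q ∈ Finset.range 31671, FF χ q = (χ : Fi23 → ℂ) 1 + 3510 * (χ : Fi23 → ℂ) (el .g * el .z) +
      28160 * (χ : Fi23 → ℂ) (el .j * el .z) := by
    rw [← Finset.sum_filter_add_sum_filter_not (Finset.range 31671) (fun q => Com 0 q)]
    have hmem : (0 : ℕ) ∈ (Finset.range 31671).filter fun q => Com 0 q :=
      Finset.mem_filter.2 ⟨by simp, com_self (by norm_num)⟩
    rw [← Finset.add_sum_erase _ _ hmem, FF_zero]
    have h5 : ∑ x ∈ ((Finset.range 31671).filter fun q => Com 0 q).erase 0, FF χ x =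
        3510 * (χ : Fi23 → ℂ) (el .g * el .z) := by
      rw [Finset.sum_congr rfl (g := fun _ => (χ : Fi23 → ℂ) (el .g * el .z)), Finset.sum_const,
        Finset.card_erase_of_mem hmem, card_com, nsmul_eq_mul]
      · norm_num
      · intro q hq
        rw [Finset.mem_erase, Finset.mem_filter, Finset.mem_range] at hq
        exact FF_com χ hq.2.1 hq.2.2 hq.1
    have h6 : ∑ x ∈ (Finset.range 31671).filter fun q => ¬ Com 0 q, FF χ x =
        28160 * (χ : Fi23 → ℂ) (el .j * el .z) := by
      rw [Finset.sum_congr rfl (g := fun _ => (χ : Fi23 → ℂ) (el .j * el .z)), Finset.sum_const, nsmul_eq_mul]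
      · congr 1
        have h7 := Finset.card_filter_add_card_filter_not (s := Finset.range 31671) (fun q => Com 0 q)
        rw [card_com, Finset.card_range] at h7
        have h8 : ((Finset.range 31671).filter fun q => ¬ Com 0 q).card = 28160 := by omega
        rw [h8]
        norm_num
      · intro q hq
        rw [Finset.mem_filter, Finset.mem_range] at hq
        exact FF_ncom χ hq.1 hq.2
    rw [h5, h6]
  rw [h4, card_G] at h
  have h1' := isIrr_apply_one_ne_zero χ.2
  rw [eq_div_iff h1'] at h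
  have h9 : (129123503308800 : ℂ) ≠ 0 := by norm_num
  apply mul_left_cancel₀ h9
  have h10 : ((4089470473293004800 : ℕ) : ℂ) = 129123503308800 * 31671 := by norm_num
  rw [h10] at h
  linear_combination -h

/-- integrality of the central character at a transposition -/
theorem dvd_of_values {f : ℕ} {A : ℤ} (hf : (χ : Fi23 → ℂ) 1 = f) (hA : (χ : Fi23 → ℂ) (el .z) = A) :
    (f : ℤ) ∣ 31671 * A := by
  have := H713.Spor.Fi23.finite_fi23
  have h := Blocks.Blau.isIntegral_centralChar' χ.2 (el .z)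
  unfold centralChar at h
  rw [index_cent, hf, hA] at h
  have hf0 : (f : ℂ) ≠ 0 := by rw [← hf]; exact isIrr_apply_one_ne_zero χ.2
  obtain ⟨n, hn⟩ := Characters.GaloisBasic.exists_int_of_isIntegral h
    ⟨((31671 : ℚ) * A / f), by push_cast; ring⟩
  refine ⟨n, ?_⟩
  rw [div_eq_iff hf0] at hn
  have h1 : ((31671 * A : ℤ) : ℂ) = ((f * n : ℤ) : ℂ) := by
    push_cast
    rw [mul_comm (f : ℂ), ← hn]
    push_cast
    ring
  exact_mod_cast h1

end

end Cfsg.Agent.H856.F23
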