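import Cfsg.Agent.H621.AltChar
import Cfsg.Agent.Characters.Brauer
import Cfsg.Agent.Characters.Linear

/-!
# The irreducible characters of `S₅` (helper856)

`tab i`, `i < 7`: `1, sgn, f - 1, sgn (f - 1), a, sgn a, b` with `f` the number of fixed points, `u` the number of points
in 2-cycles, `a = (f² - 3 f + u) / 2`, `b = (f² - 3 f + 2 - u) / 2`.

* `irr_tab`, `tab_complete`;
* `exists_mult` : a character of `S₅` is a combination of the `tab i` with natural coefficients.
-/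

set_option autoImplicit false

namespace Cfsg.Agent.H856.F23

open Cfsg Cfsg.Agent.Characters.Core
open scoped ComplexConjugate

abbrev S5 : Type := Equiv.Perm (Fin 5)

/-- fixed points -/
def nfx (σ : S5) : ℤ := ((Finset.univ.filter fun i => σ i = i).card : ℤ)
/-- points in 2-cycles -/
def nux (σ : S5) : ℤ := ((Finset.univ.filter fun i => σ i ≠ i ∧ σ (σ i) = i).card : ℤ)
/-- the sign -/
def sg (σ : S5) : ℤ := ((Equiv.Perm.sign σ : ℤˣ) : ℤ)

/-- the table -/
def tab : Fin 7 → S5 → ℤ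
  | 0, _ => 1
  | 1, σ => sg σ
  | 2, σ => nfx σ - 1
  | 3, σ => sg σ * (nfx σ - 1)
  | 4, σ => (nfx σ ^ 2 - 3 * nfx σ + nux σ) / 2
  | 5, σ => sg σ * ((nfx σ ^ 2 - 3 * nfx σ + nux σ) / 2)
  | 6, σ => (nfx σ ^ 2 - 3 * nfx σ + 2 - nux σ) / 2

theorem nf_eq' (σ : S5) : (H621.AltChar.nf (Fin 5) σ : ℤ) = nfx σ := by
  unfold H621.AltChar.nf nfx
  rw [Nat.card_eq_fintype_card, Fintype.card_subtype]
  rfl

theorem nu_eq' (σ : S5) : (H621.AltChar.nu (Fin 5) σ : ℤ) = nux σ := by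
  unfold H621.AltChar.nu nux
  rw [Nat.card_eq_fintype_card, Fintype.card_subtype]
  rfl

theorem even_a : ∀ σ : S5, 2 * ((nfx σ ^ 2 - 3 * nfx σ + nux σ) / 2) = nfx σ ^ 2 - 3 * nfx σ + nux σ := by
  decide +kernel

theorem even_b : ∀ σ : S5, 2 * ((nfx σ ^ 2 - 3 * nfx σ + 2 - nux σ) / 2) = nfx σ ^ 2 - 3 * nfx σ + 2 - nux σ := by
  decide +kernel

theorem sq_tab : ∀ i : Fin 7, ∑ σ : S5, tab i σ ^ 2 = 120 := by decide +kernel

theorem one_tab : ∀ i : Fin 7, 0 < tab i 1 := by decide +kernel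

theorem reg_tab : ∀ σ : S5, ∑ i : Fin 7, tab i 1 * tab i σ = if σ = 1 then 120 else 0 := by decide +kernel

theorem trans5 : MulAction.IsMultiplyPretransitive S5 (Fin 5) 4 := Equiv.Perm.isMultiplyPretransitive (Fin 5) 4

/-- the sign as a homomorphism to `ℂˣ` -/
noncomputable def sgHom : S5 →* ℂˣ := (Units.map (Int.castRingHom ℂ).toMonoidHom).comp Equiv.Perm.sign

theorem sgHom_apply (σ : S5) : ((sgHom σ : ℂˣ) : ℂ) = sg σ := rfl

theorem gen_sg : IsGeneralizedCharacter S5 (fun σ => (sg σ : ℂ)) :=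
  Characters.Brauer.isGeneralizedCharacter_of_isCharacter (Characters.Linear.isCharacter_hom sgHom)

theorem gen_tab : ∀ i : Fin 7, IsGeneralizedCharacter S5 (fun σ => (tab i σ : ℂ)) := by
  have h2 : IsGeneralizedCharacter S5 (fun σ => (tab 2 σ : ℂ)) := by
    have h := Characters.Brauer.isGeneralizedCharacter_of_isCharacter
      (isIrr_isCharacter (H621.AltChar.irr_one (G := S5) (Ω := Fin 5) (by simp) trans5))
    convert h using 2 with σ
    show ((nfx σ - 1 : ℤ) : ℂ) = _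
    rw [← nf_eq']
    push_cast
    rfl
  have h4 : IsGeneralizedCharacter S5 (fun σ => (tab 4 σ : ℂ)) := by
    have h := Characters.Brauer.isGeneralizedCharacter_of_isCharacter
      (isIrr_isCharacter (H621.AltChar.irr_a (G := S5) (Ω := Fin 5) (by simp) trans5))
    convert h using 2 with σ
    have h1 := even_a σ
    have h2 : (tab 4 σ : ℤ) = (nfx σ ^ 2 - 3 * nfx σ + nux σ) / 2 := rfl
    rw [← h2, ← nf_eq', ← nu_eq'] at h1
    have h3 : (2 : ℂ) * (tab 4 σ : ℂ) = ((H621.AltChar.nf (Fin 5) σ : ℂ)) ^ 2 - 3 * H621.AltChar.nf (Fin 5) σ +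
        H621.AltChar.nu (Fin 5) σ := by exact_mod_cast h1
    rw [← h3]; ring
  have h6 : IsGeneralizedCharacter S5 (fun σ => (tab 6 σ : ℂ)) := by
    have h := Characters.Brauer.isGeneralizedCharacter_of_isCharacter
      (isIrr_isCharacter (H621.AltChar.irr_b (G := S5) (Ω := Fin 5) (by simp) trans5))
    convert h using 2 with σ
    have h1 := even_b σ
    have h2 : (tab 6 σ : ℤ) = (nfx σ ^ 2 - 3 * nfx σ + 2 - nux σ) / 2 := rfl
    rw [← h2, ← nf_eq', ← nu_eq'] at h1
    have h3 : (2 : ℂ) * (tab 6 σ : ℂ) = ((H621.AltChar.nf (Fin 5) σ : ℂ)) ^ 2 - 3 * H621.AltChar.nf (Fin 5) σ + 2 -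
        H621.AltChar.nu (Fin 5) σ := by exact_mod_cast h1
    rw [← h3]; ring
  intro i
  fin_cases i
  · have h := Characters.Brauer.isGeneralizedCharacter_of_isCharacter (isCharacter_one (G := S5))
    convert h using 1
    funext σ
    show ((1 : ℤ) : ℂ) = 1
    simp
  · exact gen_sg
  · exact h2
  · have h := Characters.Brauer.isGeneralizedCharacter_mul gen_sg h2
    convert h using 1
    funext σ
    show ((sg σ * (nfx σ - 1) : ℤ) : ℂ) = (sg σ : ℂ) * ((nfx σ - 1 : ℤ) : ℂ)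
    push_cast; ring
  · exact h4
  · have h := Characters.Brauer.isGeneralizedCharacter_mul gen_sg h4
    convert h using 1
    funext σ
    show ((sg σ * ((nfx σ ^ 2 - 3 * nfx σ + nux σ) / 2) : ℤ) : ℂ) = (sg σ : ℂ) *
      (((nfx σ ^ 2 - 3 * nfx σ + nux σ) / 2 : ℤ) : ℂ)
    rw [Int.cast_mul]
  · exact h6

theorem card_S5 : Nat.card S5 = 120 := by
  rw [Nat.card_perm, Nat.card_fin]; decide

theorem irr_tab (i : Fin 7) : IsIrrCharacter S5 (fun σ => (tab i σ : ℂ)) :=
  H621.AltChar.isIrr_of_int S5 (gen_tab i) (tab i) (fun _ => rfl) (by rw [card_S5]; exact_mod_cast sq_tab i) (one_tab i)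

/-- the table is complete -/
theorem tab_complete {θ : S5 → ℂ} (hθ : IsIrrCharacter S5 θ) : ∃ i, ∀ σ, θ σ = tab i σ := by
  by_contra hcon
  push Not at hcon
  have h0 : ∀ i : Fin 7, classInner θ (fun σ => (tab i σ : ℂ)) = 0 := by
    intro i
    refine classInner_irr_ne hθ (irr_tab i) ?_
    rintro rfl
    obtain ⟨σ, hσ⟩ := hcon i
    exact hσ rfl
  have h1 : classInner θ (∑ i : Fin 7, (tab i 1 : ℂ) • fun σ => (tab i σ : ℂ)) = 0 := by
    rw [classInner_sum_right]
    refine Finset.sum_eq_zero fun i _ => ?_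
    rw [classInner_smul_right, h0, mul_zero]
  have h2 : (∑ i : Fin 7, (tab i 1 : ℂ) • fun σ => (tab i σ : ℂ)) = fun σ : S5 => if σ = 1 then (120 : ℂ) else 0 := by
    funext σ
    have h := congrArg (Int.cast : ℤ → ℂ) (reg_tab σ)
    rw [Finset.sum_apply]
    simp only [Pi.smul_apply, smul_eq_mul]
    push_cast at h
    rw [h]
  rw [h2, classInner_def] at h1
  have h3 : ∑ g : S5, θ g * conj (if g = 1 then (120 : ℂ) else 0) = θ 1 * 120 := by
    rw [Finset.sum_eq_single (1 : S5)]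
    · rw [if_pos rfl]
      have h5 : conj (120 : ℂ) = 120 := by
        have := Complex.conj_natCast 120
        exact_mod_cast this
      rw [h5]
    · intro b _ hb
      rw [if_neg hb]; simp
    · intro h; exact absurd (Finset.mem_univ _) h
  rw [h3] at h1
  have h4 := isIrr_apply_one_ne_zero hθ
  have h5 : (Nat.card S5 : ℂ)⁻¹ ≠ 0 := inv_ne_zero card_ne_zero_complex
  exact (mul_ne_zero h5 (mul_ne_zero h4 (by norm_num))) h1

/-- natural multiplicities -/
theorem exists_mult {ψ : S5 → ℂ} (hψ : IsCharacter S5 ψ) :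
    ∃ m : Fin 7 → ℕ, ∀ σ, ψ σ = ((∑ i : Fin 7, (m i : ℤ) * tab i σ : ℤ) : ℂ) := by
  classical
  have : Finite (IrrCharacter S5) := finite_irr
  have := Fintype.ofFinite (IrrCharacter S5)
  obtain ⟨n, hn⟩ := exists_nat_comb hψ
  choose j hj using fun θ : IrrCharacter S5 => tab_complete θ.2
  refine ⟨fun i => ∑ θ : IrrCharacter S5, if j θ = i then n θ else 0, fun σ => ?_⟩
  rw [hn]
  rw [Finset.sum_apply]
  push_cast
  simp only [Finset.sum_mul]
  rw [Finset.sum_comm]
  refine Finset.sum_congr rfl fun θ _ => ?_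
  rw [Finset.sum_eq_single (j θ)]
  · rw [if_pos rfl, ← hj θ σ, Pi.smul_apply, nsmul_eq_mul]
  · intro b _ hb
    rw [if_neg (Ne.symm hb)]; simp
  · intro h; exact absurd (Finset.mem_univ _) h

end Cfsg.Agent.H856.F23
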