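import Cfsg.Agent.H856.F23.Loc
import Cfsg.Agent.H856.F23.Tab5
import Cfsg.Agent.H839.Seven
import Cfsg.Agent.H839.FrobGen
import Cfsg.Agent.H713.Spor.Fi23

/-!
# `Fi₂₃`: values modulo 7, from `C(7) = 7 × S₅` (helper856)

`vals7 χ`: natural multiplicities `m` of the restriction to `S₅`, and `c ∈ {0, ±1}`, `i` with
`χ(σ) ≡ c tab i σ` modulo 7 and `χ(y σ) = c tab i σ` for `y` of order 7.
-/

set_option autoImplicit false
set_option maxRecDepth 100000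

namespace Cfsg.Agent.H856.F23

open Cfsg Subgroup Cfsg.Agent.Lib.PermNet Cfsg.Agent.Fischer.Fi23Hom Cfsg.Agent.LThreeFi23
open Cfsg.Agent.H838.Fi23 (SL el_mem elw_mem DD L5)
open Cfsg.Agent.Characters.Core
open Cfsg.Spor (Fi23)

/-- the subgroup `S₅` -/
noncomputable def f5 : S5 →* Fi23 := H839.Fi23.exists_S5.choose

theorem f5_swap (i : Fin 4) : f5 (Equiv.swap i.castSucc i.succ) = el (H839.Fi23.c5 i) :=
  H839.Fi23.exists_S5.choose_spec.1 i

theorem f5_range : f5.range = SL L5 := H839.Fi23.exists_S5.choose_spec.2.1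

theorem f5_inj : Function.Injective f5 := H839.Fi23.exists_S5.choose_spec.2.2

theorem f5_z : f5 (Equiv.swap 0 1) = el .z := f5_swap 0
theorem f5_j : f5 (Equiv.swap 1 2) = el .j := f5_swap 1
theorem f5_g : f5 (Equiv.swap 2 3) = el .g := f5_swap 2
theorem f5_f : f5 (Equiv.swap 3 4) = el .f := f5_swap 3

theorem card_SL5 : Nat.card (SL L5) = 120 := by
  rw [← f5_range, ← card_S5]
  exact (Nat.card_congr (MonoidHom.ofInjective f5_inj).toEquiv).symm

/-- the isomorphism onto `SL L5` -/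
noncomputable def e5 : S5 ≃* SL L5 := (MonoidHom.ofInjective f5_inj).trans (MulEquiv.subgroupCongr f5_range)

theorem e5_coe (σ : S5) : ((e5 σ : SL L5) : Fi23) = f5 σ := rfl

theorem card_y7 : Nat.card (zpowers (elw y7)) = 7 := by
  have : Fact (Nat.Prime 7) := ⟨by norm_num⟩
  rw [Nat.card_zpowers, orderOf_eq_prime pow7 y7_ne]

theorem ns7 : ∃ F : Subgroup Fi23, Nat.card F = 42 ∧ NS (zpowers (elw y7)) F (SL L5) := by
  obtain ⟨F, h1, h2, h3, h4, h5, h6, -⟩ := H839.Fi23.normStr_y7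
  rw [H839.Fi23.closure_y7] at h5 h6
  exact ⟨F, h1, h2, h3, h5, h6⟩

theorem card_C7 : Nat.card (centralizer ((zpowers (elw y7) : Subgroup Fi23) : Set Fi23)) = 840 := by
  have := H713.Spor.Fi23.finite_fi23
  rw [H839.FrobGen.card_cent (by norm_num : Nat.Prime 7) pow7 y7_ne
    (fun x hx => (H839.Fi23.S5_comm_y7 hx).symm) (fun w hw => H839.Fi23.cent7 hw) H839.Fi23.y7_pow_S5, card_SL5]

theorem card_N7 : Nat.card (normalizer ((zpowers (elw y7) : Subgroup Fi23) : Set Fi23)) = 5040 := by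
  have := H713.Spor.Fi23.finite_fi23
  obtain ⟨F, h1, h2, h3, h4, h5, h6, -⟩ := H839.Fi23.normStr_y7
  rw [H839.Fi23.closure_y7] at h4 h5 h6
  rw [← h6, H839.Count.card_sup_of_comm h5 h4, h1, card_SL5]

open Cfsg.Agent.SmallSimple Cfsg.Agent.SmallSimple.ThetaSetup

/-- **the values at `S₅` and at `7 × S₅`** -/
theorem vals7 (χ : IrrCharacter Fi23) : ∃ (m : Fin 7 → ℕ) (c : ℤ) (i : Fin 7), (c = 0 ∨ c = 1 ∨ c = -1) ∧
    (∀ σ, (χ : Fi23 → ℂ) (f5 σ) = ((∑ j : Fin 7, (m j : ℤ) * tab j σ : ℤ) : ℂ)) ∧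
    (∀ σ, (7 : ℤ) ∣ (∑ j : Fin 7, (m j : ℤ) * tab j σ) - c * tab i σ) ∧
    (∀ x ∈ zpowers (elw y7), x ≠ 1 → ∀ σ, (χ : Fi23 → ℂ) (x * f5 σ) = ((c * tab i σ : ℤ) : ℂ)) := by
  have : Fact (Nat.Prime 7) := ⟨by norm_num⟩
  have := H713.Spor.Fi23.finite_fi23
  obtain ⟨P, hPy, hP⟩ := exists_syl (G := Fi23) (p := 7) card_y7 (by rw [card_G]; norm_num) (by rw [card_G]; norm_num)
  obtain ⟨F, -, hNS⟩ := ns7
  rw [← hPy] at hNS
  have hS7 : ¬ 7 ∣ Nat.card (SL L5) := by rw [card_SL5]; norm_num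
  have hK := hNS.isComp hP hS7
  have he := relIndex_of_card (P := P) (c := 840) (n := 5040) (e := 6) (by rw [hPy]; exact card_C7)
    (by rw [hPy]; exact card_N7) (by norm_num) (by norm_num)
  obtain ⟨c, θ, hc, h1, h2⟩ := blk_one hK hP
    (fun θ n hn => hNS.stable hK (isIrr_isClassFunction θ.2) hn) he χ
  obtain ⟨m, hm⟩ := exists_mult (isCharacter_comp f5 (isIrr_isCharacter χ.2))
  obtain ⟨i, hi⟩ := tab_complete (isIrr_comp e5.toMonoidHom e5.surjective θ.2)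
  have hθ : ∀ σ, (θ : SL L5 → ℂ) (e5 σ) = tab i σ := hi
  refine ⟨m, c, i, hc, hm, fun σ => ?_, fun x hx hx1 σ => ?_⟩
  · obtain ⟨z, hz, h⟩ := h1 (e5 σ)
    rw [e5_coe, hθ, show (χ : Fi23 → ℂ) (f5 σ) = _ from hm σ] at h
    refine dvd_of_integral (q := 7) (by norm_num) ⟨z, hz, ?_⟩
    rw [h]
    push_cast
    ring
  · rw [← hPy] at hx
    have h := h2 ⟨x, hx⟩ (fun h => hx1 (congrArg Subtype.val h)) (e5 σ)
    rw [e5_coe, hθ] at h
    rw [h]
    push_cast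
    ring

end Cfsg.Agent.H856.F23
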