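import Cfsg.Agent.SmallSimple.TheoremCCor
import Cfsg.Agent.Characters.GaloisBasic

/-!
# Values of an irreducible character on `C(P) = P × K`, `P` of prime order, all `θ ∈ Irr K` stable (helper856)

* `blk_gen` : `χ k ≡ c θ(k)` modulo `p` on `K` with `c ∈ {0, ±1, ±e}`;
* `blk_one` : for `e = p - 1` moreover `χ (x k) = c θ(k)` for `x ∈ P`, `x ≠ 1`, with `c ∈ {0, ±1}`;
* `over_principal` : `χ(1) ≡ ± 1` or `part 1 χ 1 ≡ 0`, for a single stable linear `θ`.
-/

set_option autoImplicit false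
set_option linter.unusedSectionVars false
open Cfsg
open scoped ComplexConjugate

namespace Cfsg.Agent.H856.F23

open Subgroup
open Cfsg.Agent.Characters.Core
open Cfsg.Agent.SmallSimple Cfsg.Agent.SmallSimple.ThetaSetup Cfsg.Agent.SmallSimple.ThetaOrtho
open Cfsg.Agent.SmallSimple.TheoremC Cfsg.Agent.SmallSimple.TheoremCCor

universe u

variable {G : Type u} [Group G] [Finite G] {p : ℕ} [hp : Fact p.Prime] {P : Sylow p G} {K : Subgroup G}

/-- The congruence for the values on `K`, from the multiplicities. -/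
theorem cong_of_part {χ : IrrCharacter G} {θ : IrrCharacter K} {c : ℤ}
    (h : ∀ θ' : IrrCharacter K, ∃ k : ℤ, part (θ' : K → ℂ) (χ : G → ℂ) 1 =
      ((open scoped Classical in if θ' = θ then c else 0 : ℤ) : ℂ) + p * k) (y : K) :
    ∃ z : ℂ, IsIntegral ℤ z ∧ (χ : G → ℂ) y = c * (θ : K → ℂ) y + p * z := by
  classical
  have : Finite (IrrCharacter K) := finite_irr
  have := Fintype.ofFinite (IrrCharacter K)
  choose k hk using h
  refine ⟨∑ θ' : IrrCharacter K, (k θ' : ℂ) * (θ' : K → ℂ) y, ?_, ?_⟩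
  · refine IsIntegral.sum _ fun θ' _ => IsIntegral.mul isIntegral_algebraMap ?_
    exact Characters.GaloisBasic.isIntegral_apply (isIrr_isCharacter θ'.2) y
  · have h1 := sum_part (K := K) (isIrr_isClassFunction χ.2) (x := (1 : G)) (fun y _ => by rw [one_mul, mul_one]) y
    rw [one_mul] at h1
    rw [h1, Finset.mul_sum]
    have h2 : (c : ℂ) * (θ : K → ℂ) y = ∑ θ' : IrrCharacter K,
        ((if θ' = θ then c else 0 : ℤ) : ℂ) * (θ' : K → ℂ) y := by
      rw [Finset.sum_eq_single_of_mem θ (Finset.mem_univ _)]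
      · rw [if_pos rfl]
      · intro b _ hb
        rw [if_neg hb]
        simp
    rw [h2, ← Finset.sum_add_distrib]
    refine Finset.sum_congr rfl fun θ' _ => ?_
    rw [hk]
    ring

/-- The congruence for the values on `K`, from the multiplicities, for an orbit. -/
theorem cong_orb {χ : IrrCharacter G} {O : Finset (IrrCharacter K)} {c : ℤ}
    (h : ∀ θ' : IrrCharacter K, ∃ k : ℤ, part (θ' : K → ℂ) (χ : G → ℂ) 1 =
      ((open scoped Classical in if θ' ∈ O then c else 0 : ℤ) : ℂ) + p * k) (y : K) :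
    ∃ z : ℂ, IsIntegral ℤ z ∧ (χ : G → ℂ) y = c * ∑ θ' ∈ O, (θ' : K → ℂ) y + p * z := by
  classical
  have : Finite (IrrCharacter K) := finite_irr
  have := Fintype.ofFinite (IrrCharacter K)
  choose k hk using h
  refine ⟨∑ θ' : IrrCharacter K, (k θ' : ℂ) * (θ' : K → ℂ) y, ?_, ?_⟩
  · refine IsIntegral.sum _ fun θ' _ => IsIntegral.mul isIntegral_algebraMap ?_
    exact Characters.GaloisBasic.isIntegral_apply (isIrr_isCharacter θ'.2) y
  · have h1 := sum_part (K := K) (isIrr_isClassFunction χ.2) (x := (1 : G)) (fun y _ => by rw [one_mul, mul_one]) y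
    rw [one_mul] at h1
    have h2 : (c : ℂ) * ∑ θ' ∈ O, (θ' : K → ℂ) y = ∑ θ' : IrrCharacter K,
        ((if θ' ∈ O then c else 0 : ℤ) : ℂ) * (θ' : K → ℂ) y := by
      have h3 : ∑ θ' ∈ O, (θ' : K → ℂ) y = ∑ θ' : IrrCharacter K, if θ' ∈ O then (θ' : K → ℂ) y else 0 := by
        rw [← Finset.sum_filter]
        exact Finset.sum_congr (by ext; simp) fun _ _ => rfl
      rw [h3, Finset.mul_sum]
      refine Finset.sum_congr rfl fun θ' _ => ?_
      split_ifs <;> simp
    rw [h1, h2, Finset.mul_sum, ← Finset.sum_add_distrib]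
    refine Finset.sum_congr rfl fun θ' _ => ?_
    rw [hk]
    ring

/-- The values on `K` modulo `p`, inertial index `p - 1` of `P`, no assumption of stability. -/
theorem blk_full (hK : IsComp p (P : Subgroup G) K) (hP : Nat.card P = p)
    (he : (centralizer ((P : Subgroup G) : Set G)).relIndex (normalizer ((P : Subgroup G) : Set G)) = p - 1)
    (χ : IrrCharacter G) :
    ∃ (c : ℤ) (O : Finset (IrrCharacter K)), (c = 0 ∨ ∃ θ : IrrCharacter K, O = orb P K (θ : K → ℂ) ∧
        (c = 1 ∨ c = -1 ∨ ∃ e : ℕ, e * O.card = p - 1 ∧ (c = e ∨ c = -e))) ∧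
      (∀ y : K, ∃ z : ℂ, IsIntegral ℤ z ∧ (χ : G → ℂ) y = c * ∑ θ' ∈ O, (θ' : K → ℂ) y + p * z) := by
  classical
  by_cases hc : ∃ θ : IrrCharacter K, χ ∈ Over P (θ : K → ℂ)
  · obtain ⟨θ, hθ⟩ := hc
    have hs := card_stabAct_mul_card_orb hK hP θ.2
    rw [he] at hs
    obtain ⟨NE, X, ε, d, S, h1, h2, h3, h4, h5, h6, h7, h8, h9, h10, h11⟩ :=
      theoremC hK hP θ.2 rfl hs
    have h0 : ∀ θ' : IrrCharacter K, θ' ∉ orb P K (θ : K → ℂ) →
        ∃ k : ℤ, part (θ' : K → ℂ) (χ : G → ℂ) 1 = p * k := by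
      intro θ' h
      obtain ⟨k, hk⟩ := part_one_of_const hK hP (isIrr_isCharacter χ.2) θ'.2 (c := 0) fun x hx => by
        rw [part_eq_zero_of_not_mem_orb hK hP θ.2 hθ h hx]; simp
      exact ⟨k, by rw [hk]; simp⟩
    rcases (h1 χ).1 hθ with h | h
    · refine ⟨ε χ, orb P K (θ : K → ℂ), Or.inr ⟨θ, rfl, ?_⟩, cong_orb fun θ' => ?_⟩
      · rcases h5 χ h with h | h
        · exact Or.inl h
        · exact Or.inr (Or.inl h)
      · split_ifs with h12
        · exact part_one_of_const hK hP (isIrr_isCharacter χ.2) θ'.2 fun x hx =>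
            part_orb_of_const hK (h7 χ h) h12 hx
        · obtain ⟨k, hk⟩ := h0 θ' h12
          exact ⟨k, by rw [hk]; simp⟩
    · obtain ⟨hS, hS1, -, hSv⟩ := h8 χ h
      refine ⟨d * Nat.card (stabAct hK (θ : K → ℂ)), orb P K (θ : K → ℂ), Or.inr ⟨θ, rfl, Or.inr (Or.inr
        ⟨_, hs, ?_⟩)⟩, cong_orb fun θ' => ?_⟩
      · rcases h6 with h | h
        · left; rw [h, one_mul]
        · right; rw [h, neg_one_mul]
      · split_ifs with h12
        · obtain ⟨k, hk⟩ := part_one_of_exc hK hP (isIrr_isCharacter χ.2) θ.2 hS1 hSv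
          have hθ' : part (θ' : K → ℂ) (χ : G → ℂ) 1 = part (θ : K → ℂ) (χ : G → ℂ) 1 := by
            obtain ⟨n, hn, h⟩ := mem_orb.1 h12
            have h13 := part_conj hK (θ : K → ℂ) (isIrr_isClassFunction χ.2) hn (1 : G)
            rw [mul_one, mul_inv_cancel] at h13
            rw [← h, ← h13]
          refine ⟨k, ?_⟩
          rw [hθ', hk, hS]
          push_cast
          ring
        · obtain ⟨k, hk⟩ := h0 θ' h12
          exact ⟨k, by rw [hk]; simp⟩
  · push Not at hc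
    refine ⟨0, ∅, Or.inl rfl, cong_orb fun θ' => ?_⟩
    obtain ⟨k, hk⟩ := part_one_of_const hK hP (isIrr_isCharacter χ.2) θ'.2 (c := 0) fun x hx => by
      rw [part_eq_zero (hc θ') hx]; simp
    exact ⟨k, by rw [hk]; simp⟩

section

variable (hK : IsComp p (P : Subgroup G) K) (hP : Nat.card P = p)
  (hst : ∀ θ : IrrCharacter K, ∀ n ∈ normalizer ((P : Subgroup G) : Set G), tw (θ : K → ℂ) n = θ)
include hK hP hst

/-- not over any `θ` -/
theorem part_of_not {χ : IrrCharacter G} {θ : IrrCharacter K} (h : χ ∉ Over P (θ : K → ℂ)) :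
    ∃ k : ℤ, part (θ : K → ℂ) (χ : G → ℂ) 1 = p * k := by
  obtain ⟨k, hk⟩ := part_one_of_const hK hP (isIrr_isCharacter χ.2) θ.2 (c := 0) fun x hx => by
    rw [part_eq_zero h hx]; simp
  exact ⟨k, by rw [hk]; simp⟩

theorem not_over_of {χ : IrrCharacter G} {θ θ' : IrrCharacter K} (h : χ ∈ Over P (θ : K → ℂ)) (hne : θ' ≠ θ) :
    χ ∉ Over P (θ' : K → ℂ) := by
  have h1 := disjoint_Over hK hP θ.2 θ'.2 fun n hn h2 => hne (Subtype.ext ((hst θ n hn).symm.trans h2).symm)
  exact fun h2 => Set.disjoint_left.1 h1 h h2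

theorem blk_gen {e t : ℕ} (he : (centralizer ((P : Subgroup G) : Set G)).relIndex
    (normalizer ((P : Subgroup G) : Set G)) = e) (ht : e * t = p - 1) (χ : IrrCharacter G) :
    ∃ (c : ℤ) (θ : IrrCharacter K), (c = 0 ∨ c = 1 ∨ c = -1 ∨ c = e ∨ c = -e) ∧
      (∀ y : K, ∃ z : ℂ, IsIntegral ℤ z ∧ (χ : G → ℂ) y = c * (θ : K → ℂ) y + p * z) ∧
      (∀ x : P, x ≠ 1 → ∀ y : K, c * (θ : K → ℂ) y = 0 → (χ : G → ℂ) (x * y) = 0) := by
  classical
  by_cases hc : ∃ θ : IrrCharacter K, χ ∈ Over P (θ : K → ℂ)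
  · obtain ⟨θ, hθ⟩ := hc
    have hs := card_stabAct_of_stable hK hP θ.2 (hst θ)
    obtain ⟨NE, X, ε, d, S, h1, h2, h3, h4, h5, h6, h7, h8, h9, h10, h11⟩ :=
      theoremC hK hP θ.2 (hs.trans he) ht
    have hv : ∀ x : P, x ≠ 1 → ∀ y : K, (θ : K → ℂ) y = 0 → (χ : G → ℂ) (x * y) = 0 := by
      intro x hx y hy
      rw [apply_of_stable hK hP θ.2 (hst θ) hθ hx y, hy, mul_zero]
    rcases (h1 χ).1 hθ with h | h
    · refine ⟨ε χ, θ, ?_, cong_of_part fun θ' => ?_, ?_⟩
      · rcases h5 χ h with h | h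
        · exact Or.inr (Or.inl h)
        · exact Or.inr (Or.inr (Or.inl h))
      · split_ifs with h12
        · subst h12
          exact part_one_of_const hK hP (isIrr_isCharacter χ.2) θ'.2 (h7 χ h)
        · obtain ⟨k, hk⟩ := part_of_not hK hP hst (not_over_of hK hP hst hθ h12)
          exact ⟨k, by rw [hk]; simp⟩
      · intro x hx y hy
        refine hv x hx y ?_
        rcases mul_eq_zero.1 hy with h12 | h12
        · exfalso
          have h13 : ε χ = 0 := by exact_mod_cast h12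
          rcases h5 χ h with h | h <;> omega
        · exact h12
    · obtain ⟨hS, hS1, -, hSv⟩ := h8 χ h
      have he0 : e ≠ 0 := by
        rintro rfl
        have := hp.out.two_le
        omega
      refine ⟨d * e, θ, ?_, cong_of_part fun θ' => ?_, ?_⟩
      · rcases h6 with h | h
        · right; right; right; left; rw [h, one_mul]
        · right; right; right; right; rw [h, neg_one_mul]
      · split_ifs with h12
        · subst h12
          obtain ⟨k, hk⟩ := part_one_of_exc hK hP (isIrr_isCharacter χ.2) θ'.2 hS1 hSv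
          refine ⟨k, ?_⟩
          rw [hk, hS]
          push_cast
          ring
        · obtain ⟨k, hk⟩ := part_of_not hK hP hst (not_over_of hK hP hst hθ h12)
          exact ⟨k, by rw [hk]; simp⟩
      · intro x hx y hy
        refine hv x hx y ?_
        rcases mul_eq_zero.1 hy with h12 | h12
        · exfalso
          have h13 : d * (e : ℤ) = 0 := by exact_mod_cast h12
          rcases mul_eq_zero.1 h13 with h14 | h14
          · rcases h6 with h | h <;> omega
          · omega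
        · exact h12
  · push Not at hc
    refine ⟨0, ⟨1, isIrr_one⟩, Or.inl rfl, cong_of_part fun θ' => ?_, ?_⟩
    · obtain ⟨k, hk⟩ := part_of_not hK hP hst (hc θ')
      exact ⟨k, by rw [hk]; simp⟩
    · intro x hx y _
      refine apply_eq_zero hK hP hc ?_
      have hx1 : (x : G) ≠ 1 := fun h => hx (Subtype.ext h)
      have hcm : Commute (x : G) (y : G) := hK.comm x.2 y.2
      have ho := Blocks.CyclicOrtho.orderOf_eq P hP x.2 hx1
      have hcop : (orderOf (x : G)).Coprime (orderOf (y : G)) := by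
        rw [ho]
        exact ((Fact.out : p.Prime).coprime_iff_not_dvd).2 ((hK y).1 y.2).2
      rw [hcm.orderOf_mul_eq_mul_orderOf_of_coprime hcop, ho]
      exact dvd_mul_right _ _

theorem blk_one (he : (centralizer ((P : Subgroup G) : Set G)).relIndex
    (normalizer ((P : Subgroup G) : Set G)) = p - 1) (χ : IrrCharacter G) :
    ∃ (c : ℤ) (θ : IrrCharacter K), (c = 0 ∨ c = 1 ∨ c = -1) ∧
      (∀ y : K, ∃ z : ℂ, IsIntegral ℤ z ∧ (χ : G → ℂ) y = c * (θ : K → ℂ) y + p * z) ∧
      (∀ x : P, x ≠ 1 → ∀ y : K, (χ : G → ℂ) (x * y) = c * (θ : K → ℂ) y) := by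
  classical
  by_cases hc : ∃ θ : IrrCharacter K, χ ∈ Over P (θ : K → ℂ)
  · obtain ⟨θ, hθ⟩ := hc
    have hs := card_stabAct_of_stable hK hP θ.2 (hst θ)
    obtain ⟨B, δ, -, h2, h3, -⟩ := theoremC_one hK hP θ.2 (hs.trans he)
    obtain ⟨h4, h5⟩ := h3 χ ((h2 χ).1 hθ)
    refine ⟨δ χ, θ, Or.inr h4, cong_of_part fun θ' => ?_, ?_⟩
    · split_ifs with h12
      · subst h12
        exact part_one_of_const hK hP (isIrr_isCharacter χ.2) θ'.2 h5
      · obtain ⟨k, hk⟩ := part_of_not hK hP hst (not_over_of hK hP hst hθ h12)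
        exact ⟨k, by rw [hk]; simp⟩
    · intro x hx y
      rw [apply_of_stable hK hP θ.2 (hst θ) hθ hx y, h5 x hx]
  · push Not at hc
    refine ⟨0, ⟨1, isIrr_one⟩, Or.inl rfl, cong_of_part fun θ' => ?_, ?_⟩
    · obtain ⟨k, hk⟩ := part_of_not hK hP hst (hc θ')
      exact ⟨k, by rw [hk]; simp⟩
    · intro x hx y
      rw [Int.cast_zero, zero_mul]
      refine apply_eq_zero hK hP hc ?_
      have hx1 : (x : G) ≠ 1 := fun h => hx (Subtype.ext h)
      have hcm : Commute (x : G) (y : G) := hK.comm x.2 y.2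
      have ho := Blocks.CyclicOrtho.orderOf_eq P hP x.2 hx1
      have hcop : (orderOf (x : G)).Coprime (orderOf (y : G)) := by
        rw [ho]
        exact ((Fact.out : p.Prime).coprime_iff_not_dvd).2 ((hK y).1 y.2).2
      rw [hcm.orderOf_mul_eq_mul_orderOf_of_coprime hcop, ho]
      exact dvd_mul_right _ _

end

/-- One stable `θ` of degree one: `χ(1) ≡ ± 1` modulo `p` or the multiplicity of `θ` is divisible by `p`. -/
theorem part_or (hK : IsComp p (P : Subgroup G) K) (hP : Nat.card P = p)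
    (he : (centralizer ((P : Subgroup G) : Set G)).relIndex (normalizer ((P : Subgroup G) : Set G)) = p - 1)
    {θ : K → ℂ} (hθ : IsIrrCharacter K θ) (h1 : θ 1 = 1)
    (hst : ∀ n ∈ normalizer ((P : Subgroup G) : Set G), tw θ n = θ) (χ : IrrCharacter G) :
    (∃ k : ℤ, (χ : G → ℂ) 1 = 1 + p * k ∨ (χ : G → ℂ) 1 = -1 + p * k) ∨
      ∃ k : ℤ, part θ (χ : G → ℂ) 1 = p * k := by
  by_cases h : χ ∈ Over P θ
  · left
    have hs := card_stabAct_of_stable hK hP hθ hst
    obtain ⟨B, δ, -, h2, h3, -⟩ := theoremC_one hK hP hθ (hs.trans he)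
    obtain ⟨h4, h5⟩ := h3 χ ((h2 χ).1 h)
    obtain ⟨k, hk⟩ := degree_of_const hK hP hθ h h5
    refine ⟨k, ?_⟩
    rw [orb_of_stable hθ hst, Finset.sum_singleton] at hk
    change _ = (δ χ : ℂ) * θ 1 + _ at hk
    rw [h1, mul_one] at hk
    rcases h4 with h4 | h4
    · left; rw [hk, h4]; simp
    · right; rw [hk, h4]; simp
  · right
    obtain ⟨k, hk⟩ := part_one_of_const hK hP (isIrr_isCharacter χ.2) hθ (c := 0) fun x hx => by
      rw [part_eq_zero h hx]; simp
    exact ⟨k, by rw [hk]; simp⟩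

end Cfsg.Agent.H856.F23
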