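import Cfsg.Agent.H856.F23.Blk
import Cfsg.Agent.H838.Transport
import Cfsg.Agent.H839.Count
import Cfsg.Agent.SmallSimple.PrimeLocal

/-!
# From the structure of a normalizer to the data of the blocks (helper856)

`NormStr m n D P` (helper838): `N(P) = F × S`, `S = ⟨D ∩ C(P)⟩ ≅ S_n`, `F ∩ C(P) = P`.
-/

set_option autoImplicit false
set_option linter.unusedSectionVars false

namespace Cfsg.Agent.H856.F23

open Cfsg Subgroup
open Cfsg.Agent.Characters.Core
open Cfsg.Agent.SmallSimple Cfsg.Agent.SmallSimple.ThetaSetup Cfsg.Agent.SmallSimple.ThetaOrtho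
open Cfsg.Agent.H838.Transport

universe u

variable {G : Type u} [Group G] [Finite G] {p : ℕ} [hp : Fact p.Prime] {P : Sylow p G}

/-- abstract form: `N(P) = F S`, `[F, S] = 1`, `F ∩ C(P) = P`, `S ≤ C(P)`, `p ∤ |S|` -/
structure NS (P : Subgroup G) (F S : Subgroup G) : Prop where
  le : P ≤ F
  inf : F ⊓ centralizer (P : Set G) = P
  comm : ∀ x ∈ F, ∀ y ∈ S, x * y = y * x
  sup : F ⊔ S = normalizer (P : Set G)

variable {F S : Subgroup G}

theorem NS.S_le (h : NS (P : Subgroup G) F S) : S ≤ centralizer ((P : Subgroup G) : Set G) := by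
  intro y hy
  rw [mem_centralizer_iff]
  exact fun x hx => h.comm x (h.le hx) y hy

theorem NS.exists_mul {P : Subgroup G} (h : NS P F S) {n : G} (hn : n ∈ normalizer (P : Set G)) :
    ∃ x ∈ F, ∃ y ∈ S, n = x * y := by
  rw [← h.sup] at hn
  have hcm : ∀ (a : F) (b : S), Commute (F.subtype a) (S.subtype b) := fun a b => h.comm a a.2 b b.2
  have hle : F ⊔ S ≤ (MonoidHom.noncommCoprod F.subtype S.subtype hcm).range := by
    refine sup_le ?_ ?_
    · intro x hx
      exact ⟨(⟨x, hx⟩, 1), by simp⟩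
    · intro x hx
      exact ⟨(1, ⟨x, hx⟩), by simp⟩
  obtain ⟨⟨a, b⟩, hab⟩ := hle hn
  exact ⟨a, a.2, b, b.2, by rw [← hab]; simp⟩

theorem NS.isComp (h : NS (P : Subgroup G) F S) (hP : Nat.card P = p) (hS : ¬ p ∣ Nat.card S) :
    IsComp p (P : Subgroup G) S := by
  intro y
  constructor
  · intro hy
    refine ⟨h.S_le hy, fun hd => hS ?_⟩
    exact hd.trans (Subgroup.orderOf_dvd_natCard S hy)
  · rintro ⟨hy, hyp⟩
    obtain ⟨x, hx, s, hs, rfl⟩ := h.exists_mul (centralizer_le_normalizer _ hy)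
    have hxP : x ∈ (P : Subgroup G) := by
      rw [← h.inf]
      refine ⟨hx, ?_⟩
      have h1 := mul_mem hy (inv_mem (h.S_le hs))
      rwa [mul_inv_cancel_right] at h1
    by_cases hx1 : x = 1
    · rw [hx1, one_mul]; exact hs
    · exfalso
      apply hyp
      have hc : Commute x s := h.comm x hx s hs
      have ho := Blocks.CyclicOrtho.orderOf_eq P hP hxP hx1
      have hcop : (orderOf x).Coprime (orderOf s) := by
        rw [ho]
        refine ((Fact.out : p.Prime).coprime_iff_not_dvd).2 fun hd => hS ?_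
        exact hd.trans (Subgroup.orderOf_dvd_natCard S hs)
      rw [hc.orderOf_mul_eq_mul_orderOf_of_coprime hcop, ho]
      exact dvd_mul_right _ _

theorem NS.stable (h : NS (P : Subgroup G) F S) (hK : IsComp p (P : Subgroup G) S) {θ : S → ℂ}
    (hθ : IsClassFunction S θ) {n : G} (hn : n ∈ normalizer ((P : Subgroup G) : Set G)) : tw θ n = θ := by
  obtain ⟨x, hx, s, hs, rfl⟩ := h.exists_mul hn
  funext y
  rw [tw_apply hK _ hn, ← hθ y ⟨s, hs⟩]
  congr 1
  apply Subtype.ext
  simp only [coe_mul, coe_inv]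
  have h1 := h.comm x hx _ (mul_mem (mul_mem hs y.2) (inv_mem hs))
  calc x * s * (y : G) * (x * s)⁻¹ = (x * (s * y * s⁻¹)) * x⁻¹ := by group
    _ = _ := by rw [h1]; group

/-- `C(y) = ⟨y⟩ S` -/
theorem isComp_of {y : G} (hPy : (P : Subgroup G) = zpowers y) (hP : Nat.card P = p)
    (hSy : ∀ x ∈ S, x * y = y * x) (hC : ∀ w, w * y = y * w → ∃ i : ℤ, ∃ x ∈ S, w = y ^ i * x)
    (hS : ¬ p ∣ Nat.card S) : IsComp p (P : Subgroup G) S := by
  have hmem : ∀ w : G, w ∈ centralizer ((P : Subgroup G) : Set G) ↔ w * y = y * w := by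
    intro w
    rw [hPy, mem_centralizer_iff]
    constructor
    · intro h
      exact (h y (mem_zpowers y)).symm
    · rintro h _ ⟨i, rfl⟩
      exact ((show Commute w y from h).zpow_right i).eq.symm
  have hSC : S ≤ centralizer ((P : Subgroup G) : Set G) := fun x hx => (hmem x).2 (hSy x hx)
  intro w
  constructor
  · intro hw
    refine ⟨hSC hw, fun hd => hS ?_⟩
    exact hd.trans (Subgroup.orderOf_dvd_natCard S hw)
  · rintro ⟨hw, hwp⟩
    obtain ⟨i, s, hs, rfl⟩ := hC w ((hmem w).1 hw)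
    by_cases hx1 : y ^ i = 1
    · rw [hx1, one_mul]; exact hs
    · exfalso
      apply hwp
      have hxP : y ^ i ∈ (P : Subgroup G) := by rw [hPy]; exact ⟨i, rfl⟩
      have hc : Commute (y ^ i) s := (show Commute y s from (hSy s hs).symm).zpow_left i
      have ho := Blocks.CyclicOrtho.orderOf_eq P hP hxP hx1
      have hcop : (orderOf (y ^ i)).Coprime (orderOf s) := by
        rw [ho]
        refine ((Fact.out : p.Prime).coprime_iff_not_dvd).2 fun hd => hS ?_
        exact hd.trans (Subgroup.orderOf_dvd_natCard S hs)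
      rw [hc.orderOf_mul_eq_mul_orderOf_of_coprime hcop, ho]
      exact dvd_mul_right _ _

/-- the Sylow subgroup generated by `y` -/
theorem exists_syl {y : G} (hy : Nat.card (zpowers y) = p) (h1 : p ∣ Nat.card G) (h2 : ¬ p ^ 2 ∣ Nat.card G) :
    ∃ P : Sylow p G, (P : Subgroup G) = zpowers y ∧ Nat.card P = p := by
  have hpg : IsPGroup p (zpowers y) := IsPGroup.of_card (n := 1) (by rw [hy, pow_one])
  obtain ⟨P, hxP⟩ := hpg.exists_le_sylow
  have hP : Nat.card P = p := SmallSimple.PrimeLocal.card_of_not_sq_dvd h1 h2 P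
  refine ⟨P, ?_, hP⟩
  symm
  apply Subgroup.eq_of_le_of_card_ge hxP
  rw [hy]
  exact le_of_eq hP

/-- integers that are congruent as algebraic integers -/
theorem dvd_of_integral {q : ℕ} (hq : q ≠ 0) {a b : ℤ} (h : ∃ z : ℂ, IsIntegral ℤ z ∧ (a : ℂ) = b + q * z) :
    (q : ℤ) ∣ a - b := by
  obtain ⟨z, hz, h⟩ := h
  have hq0 : (q : ℂ) ≠ 0 := by exact_mod_cast hq
  obtain ⟨n, rfl⟩ := Characters.GaloisBasic.exists_int_of_isIntegral hz
    ⟨((a : ℚ) - b) / q, by
      push_cast
      rw [eq_div_iff hq0]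
      linear_combination -h⟩
  refine ⟨n, ?_⟩
  have h1 : ((a - b : ℤ) : ℂ) = ((q * n : ℤ) : ℂ) := by
    push_cast
    linear_combination h
  exact_mod_cast h1

theorem relIndex_of_card {c n e : ℕ} (hC : Nat.card (centralizer ((P : Subgroup G) : Set G)) = c)
    (hN : Nat.card (normalizer ((P : Subgroup G) : Set G)) = n) (hc : 0 < c) (h : n = e * c) :
    (centralizer ((P : Subgroup G) : Set G)).relIndex (normalizer ((P : Subgroup G) : Set G)) = e := by
  have h1 := H839.Count.relIndex_mul_card' (centralizer_le_normalizer ((P : Subgroup G) : Set G))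
  rw [hC, hN, h] at h1
  exact Nat.eq_of_mul_eq_mul_right hc h1

end Cfsg.Agent.H856.F23
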