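import Mathlib

/-!
# Degrees of irreducible characters of `Fi₂₃`: exclusion of five numbers (helper856)

For an irreducible character of degree `f`, with values `A`, `B`, `T` at `2A` (transpositions), `2B` (products of two
commuting transpositions), `3A` (products of two noncommuting transpositions): `Dat f A B T` lists the linear inequalities
from `S₅`, the quadratic relation of the class of transpositions, and the congruences modulo 7, 13, 11.
-/

set_option autoImplicit false

namespace Cfsg.Agent.H856.F23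

/-- the values of the irreducible characters of `S₅` at `1, (12), (12)(34)` -/
def t7 : List (ℤ × ℤ × ℤ) := [(1, 1, 1), (1, -1, 1), (4, 2, 0), (4, -2, 0), (5, 1, 1), (5, -1, 1), (6, 0, -2)]

/-- the values of the irreducible characters of `S₃` at `1, (12)` -/
def t13 : List (ℤ × ℤ) := [(1, 1), (1, -1), (2, 0)]

/-- the congruences modulo 7 -/
def c7 (f A B : ℤ) : Bool :=
  [(0 : ℤ), 1, -1].any fun c => t7.any fun t =>
    (f - c * t.1) % 7 == 0 && ((A - c * t.2.1) % 7 == 0 && (B - c * t.2.2) % 7 == 0)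

/-- the congruences modulo 13 -/
def c13 (f A : ℤ) : Bool :=
  [(0 : ℤ), 1, -1, 6, -6].any fun c => t13.any fun t => (f - c * t.1) % 13 == 0 && (A - c * t.2) % 13 == 0

/-- the congruences modulo 11 -/
def c11 (f A B : ℤ) : Bool := f % 11 == 1 || (f % 11 == 10 || (f + 2 * A + B) % 11 == 0)

structure Dat (f A B T : ℤ) : Prop where
  v1 : 0 ≤ f + B - 2 * A
  v2 : 0 ≤ f + B + 2 * A
  s1 : 0 ≤ f + 2 * T - 3 * A
  s2 : 0 ≤ f + 2 * T + 3 * A
  r1 : 0 ≤ f + 2 * T - 3 * B
  r2 : 0 ≤ f + 2 * T + 3 * B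
  b1 : B ≤ f
  b2 : T ≤ f
  dvd : f ∣ 31671 * A
  rel : 31671 * (A * A) = f * (f + 3510 * B + 28160 * T)
  m7 : c7 f A B = true
  m13 : c13 f A = true
  m11 : c11 f A B = true

/-- the bad triples -/
def bad (f A B T : ℤ) : Bool :=
  decide (B ≤ f) && (decide (0 ≤ f + B - 2 * A) && (decide (0 ≤ f + B + 2 * A) && (decide (0 ≤ f + 2 * T - 3 * A) &&
    (decide (0 ≤ f + 2 * T + 3 * A) && (decide (0 ≤ f + 2 * T - 3 * B) && (decide (0 ≤ f + 2 * T + 3 * B) &&
      (c7 f A B && c11 f A B)))))))

/-- the loop over `T` -/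
def inner (f A : ℤ) (kb : ℕ) : Bool :=
  let R := (31671 * (A * A) / f - f) / 10
  (List.range (2 * kb + 1)).all fun k =>
    let T := (44 * R) % 351 + 351 * ((k : ℤ) - kb)
    !(bad f A ((R - 2816 * T) / 351) T)

/-- the loop over `A = m (j - J)` -/
def chk (f m : ℤ) (J kb : ℕ) : Bool :=
  (List.range (2 * J + 1)).all fun j =>
    let A := m * ((j : ℤ) - J)
    bif c13 f A && (c7 f A 0 || (c7 f A 1 || (c7 f A (-1) || (c7 f A 2 || c7 f A (-2))))) then inner f A kb else true

theorem c7_pre {f A B : ℤ} (h : c7 f A B = true) :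
    (c7 f A 0 || (c7 f A 1 || (c7 f A (-1) || (c7 f A 2 || c7 f A (-2))))) = true := by
  unfold c7 at h
  rw [List.any_eq_true] at h
  obtain ⟨c, hc, h⟩ := h
  rw [List.any_eq_true] at h
  obtain ⟨t, ht, h⟩ := h
  simp only [Bool.and_eq_true, beq_iff_eq] at h
  obtain ⟨h1, h2, h3⟩ := h
  have key : c7 f A (c * t.2.2) = true := by
    unfold c7
    rw [List.any_eq_true]
    refine ⟨c, hc, ?_⟩
    rw [List.any_eq_true]
    refine ⟨t, ht, ?_⟩
    simp only [Bool.and_eq_true, beq_iff_eq]
    exact ⟨h1, h2, by rw [sub_self]; rfl⟩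
  have h4 : c * t.2.2 ∈ ([0, 1, -1, 2, -2] : List ℤ) := by
    have : ∀ c ∈ ([0, 1, -1] : List ℤ), ∀ t ∈ t7, c * t.2.2 ∈ ([0, 1, -1, 2, -2] : List ℤ) := by decide +kernel
    exact this c hc t ht
  simp only [List.mem_cons, List.not_mem_nil, or_false] at h4
  generalize e0 : c7 f A 0 = x0
  generalize e1 : c7 f A 1 = x1
  generalize e2 : c7 f A (-1) = x2
  generalize e3 : c7 f A 2 = x3
  generalize e4 : c7 f A (-2) = x4
  rcases h4 with h4 | h4 | h4 | h4 | h4 <;> rw [h4] at key
  · rw [← e0, key, Bool.true_or]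
  · rw [← e1, key, Bool.true_or, Bool.or_true]
  · rw [← e2, key, Bool.true_or, Bool.or_true, Bool.or_true]
  · rw [← e3, key, Bool.true_or, Bool.or_true, Bool.or_true, Bool.or_true]
  · rw [← e4, key, Bool.or_true, Bool.or_true, Bool.or_true, Bool.or_true]

theorem not_dat {f m : ℤ} {J kb : ℕ} (hf : 0 < f) (hm : ∀ A : ℤ, f ∣ 31671 * A → m ∣ A) (hJ : f < m * (J + 1)) (hm0 : 0 < m)
    (hkb : f < 351 * kb) (h : chk f m J kb = true) {A B T : ℤ} (hd : Dat f A B T) : False := by
  obtain ⟨v1, v2, s1, s2, r1, r2, b1, b2, dvd, rel, m7, m13, m11⟩ := hd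
  obtain ⟨j, rfl⟩ := hm A dvd
  have hA1 : m * j ≤ f := by omega
  have hA2 : -f ≤ m * j := by omega
  have hj1 : j ≤ J := by
    by_contra hcon
    push Not at hcon
    have : m * (J + 1) ≤ m * j := by
      apply mul_le_mul_of_nonneg_left _ hm0.le
      omega
    omega
  have hj2 : -(J : ℤ) ≤ j := by
    by_contra hcon
    push Not at hcon
    have h1 : m * (J + 1) ≤ m * (-j) := by
      apply mul_le_mul_of_nonneg_left _ hm0.le
      omega
    have h2 : m * (-j) = -(m * j) := by ring
    omega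
  unfold chk at h
  rw [List.all_eq_true] at h
  have h1 := h (j + J).toNat (List.mem_range.2 (by omega))
  have h2 : (((j + J).toNat : ℕ) : ℤ) - J = j := by omega
  simp only [h2] at h1
  have hpre := c7_pre m7
  rw [m13, hpre] at h1
  simp only [Bool.and_self, cond_true] at h1
  unfold inner at h1
  simp only at h1
  have hR : 31671 * (m * j * (m * j)) / f = f + 3510 * B + 28160 * T := by
    rw [rel]
    exact Int.mul_ediv_cancel_left _ hf.ne'
  have hR2 : (31671 * (m * j * (m * j)) / f - f) / 10 = 351 * B + 2816 * T := by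
    rw [hR]; omega
  rw [hR2, List.all_eq_true] at h1
  have h3 := h1 (T / 351 + kb).toNat (List.mem_range.2 (by omega))
  have h4 : (((T / 351 + kb).toNat : ℕ) : ℤ) - kb = T / 351 := by omega
  have h5 : (44 * (351 * B + 2816 * T)) % 351 + 351 * (T / 351) = T := by omega
  have h6 : (351 * B + 2816 * T - 2816 * T) / 351 = B := by omega
  simp only [h4, h5, h6] at h3
  rw [Bool.not_eq_true', ← Bool.not_eq_true] at h3
  apply h3
  unfold bad
  rw [decide_eq_true b1, decide_eq_true v1, decide_eq_true v2, decide_eq_true s1, decide_eq_true s2,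
    decide_eq_true r1, decide_eq_true r2, m7, m11]
  rfl

theorem chk288 : chk 288 32 9 1 = true := by decide +kernel
theorem chk2277 : chk 2277 11 207 7 = true := by decide +kernel
theorem chk6578 : chk 6578 286 23 19 = true := by decide +kernel
theorem chk9315 : chk 9315 5 1863 27 = true := by decide +kernel
theorem chk32384 : chk 32384 1408 23 93 = true := by decide +kernel

end Cfsg.Agent.H856.F23
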