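import Cfsg.Agent.H856.F23.Deg
import Cfsg.Agent.H65.Ore.Sieve
import Cfsg.Agent.H777.Ore.Base

/-!
# `Fi₂₃`: elements with `|C(g)| ≤ 152121389` are products of four involutions (helper856)

`t1I` : from the structure constants of the classes of `y17` (order 17) and `y28` (order 28), both inverted by involutions.
-/

set_option autoImplicit false
set_option maxRecDepth 100000

namespace Cfsg.Agent.H856.F23

open Cfsg Subgroup Cfsg.Agent.Lib.PermNet Cfsg.Agent.Fischer.Fi23Hom Cfsg.Agent.LThreeFi23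
open Cfsg.Agent.Characters.Core Cfsg.Agent.H65.Ore Cfsg.Agent.H777.Ore
open Cfsg.Spor (Fi23)

/-! ### the two elements are inverted by involutions -/

/-- the involution inverting `y17` -/
def u17 : List Lt := [.f, .j, .g, .d, .a, .c, .h, .e, .f, .j, .d, .b, .e, .h, .c, .a, .d, .g, .j, .f]

theorem c_u17 : agree (u17 ++ u17) [] [11589, 8004, 8003, 8000, 8002, 8005, 7999, 8007, 8006, 0] = true := by
  decide +kernel

theorem c_u17' : agree (u17 ++ y17) (y17.reverse ++ u17)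
    [11589, 8004, 8003, 8000, 8002, 8005, 7999, 8007, 8006, 0] = true := by decide +kernel

theorem u17_sq : elw u17 * elw u17 = 1 := by
  have h := elw_eq_of_agree c_u17
  rwa [elw_append, elw_nil] at h

theorem u17_conj : elw u17 * elw y17 * (elw u17)⁻¹ = (elw y17)⁻¹ := by
  have h := elw_eq_of_agree c_u17'
  rw [elw_append, elw_append, elw_reverse] at h
  rw [h, mul_inv_cancel_right]

/-- the involution inverting `y28` -/
noncomputable def u28 : Fi23 := elw H839.Fi23.q7 ^ 3 * (el .g * el .z)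

theorem gz_comm : el .g * el .z = el .z * el .g := by
  have := lt_comm .g .z (by decide)
  exact this

theorem S5g : el .g ∈ Cfsg.Agent.H838.Fi23.SL Cfsg.Agent.H838.Fi23.L5 := Cfsg.Agent.H838.Fi23.el_mem (by decide)
theorem S5j : el .j ∈ Cfsg.Agent.H838.Fi23.SL Cfsg.Agent.H838.Fi23.L5 := Cfsg.Agent.H838.Fi23.el_mem (by decide)
theorem S5z : el .z ∈ Cfsg.Agent.H838.Fi23.SL Cfsg.Agent.H838.Fi23.L5 := Cfsg.Agent.H838.Fi23.el_mem (by decide)

theorem q3_comm {x : Fi23} (hx : x ∈ Cfsg.Agent.H838.Fi23.SL Cfsg.Agent.H838.Fi23.L5) :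
    Commute (elw H839.Fi23.q7 ^ 3) x :=
  (show Commute (elw H839.Fi23.q7) x from (H839.Fi23.S5_comm_q7 hx).symm).pow_left 3

theorem q3_sq : elw H839.Fi23.q7 ^ 3 * elw H839.Fi23.q7 ^ 3 = 1 := by
  rw [← pow_add]; exact H839.Fi23.q7_pow

theorem q3_conj : elw H839.Fi23.q7 ^ 3 * elw y7 * (elw H839.Fi23.q7 ^ 3)⁻¹ = (elw y7)⁻¹ := by
  have h := Cfsg.Agent.H838.Norm.conj_pow_zpow H839.Fi23.q7_conj 3 1
  rw [zpow_one, mul_one] at h
  rw [h]
  have h7 : elw y7 ^ (7 : ℕ) = 1 := pow7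
  have h28 : elw y7 ^ (28 : ℤ) = 1 := by
    have : elw y7 ^ (28 : ℤ) = (elw y7 ^ (7 : ℕ)) ^ (4 : ℕ) := by
      rw [← pow_mul]
      norm_cast
    rw [this, h7, one_pow]
  have h2 : (((3 : ℕ) : ℤ) ^ 3) = 28 - 1 := by norm_num
  rw [h2, zpow_sub, h28, one_mul, zpow_one]

theorem u28_sq : u28 * u28 = 1 := by
  have hg := el_sq .g
  have hz := el_sq .z
  have h1 := (q3_comm (mul_mem S5g S5z)).eq
  have h2 := q3_sq
  unfold u28
  generalize elw H839.Fi23.q7 ^ 3 = q at h1 h2 ⊢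
  calc q * (el .g * el .z) * (q * (el .g * el .z)) = q * ((el .g * el .z) * q) * (el .g * el .z) := by group
    _ = q * (q * (el .g * el .z)) * (el .g * el .z) := by rw [h1]
    _ = (q * q) * (el .g * (el .z * el .g) * el .z) := by group
    _ = (q * q) * ((el .g * el .g) * (el .z * el .z)) := by rw [← gz_comm]; group
    _ = 1 := by rw [h2, hg, hz]; simp

theorem u28_conj : u28 * y28 * u28⁻¹ = y28⁻¹ := by
  have hg := el_sq .g
  have hz := el_sq .z
  have hj := el_sq .j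
  have h1 := (q3_comm (mul_mem S5g (mul_mem S5j S5z))).eq
  have h3 := q3_conj
  have h4 : elw y7 * (el .g * el .z) = (el .g * el .z) * elw y7 := H839.Fi23.S5_comm_y7 (mul_mem S5g S5z)
  have h5 : elw y7 * (el .g * (el .j * el .z)) = (el .g * (el .j * el .z)) * elw y7 :=
    H839.Fi23.S5_comm_y7 (mul_mem S5g (mul_mem S5j S5z))
  have hgz := gz_comm
  have e1 : (el .g * el .z) * (el .g * (el .j * el .z)) * (el .g * el .z)⁻¹ = (el .g * (el .j * el .z))⁻¹ := by
    have hg' : (el .g)⁻¹ = el .g := inv_eq_of_mul_eq_one_left hg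
    have hz' : (el .z)⁻¹ = el .z := inv_eq_of_mul_eq_one_left hz
    have hj' : (el .j)⁻¹ = el .j := inv_eq_of_mul_eq_one_left hj
    rw [mul_inv_rev, mul_inv_rev, mul_inv_rev, hg', hz', hj']
    calc (el .g * el .z) * (el .g * (el .j * el .z)) * (el .z * el .g)
        = (el .g * el .z) * el .g * el .j * (el .z * el .z) * el .g := by group
      _ = (el .z * el .g) * el .g * el .j * el .g := by rw [hz, hgz]; group
      _ = el .z * (el .g * el .g) * el .j * el .g := by group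
      _ = el .z * el .j * el .g := by rw [hg, mul_one]
  unfold u28 y28
  generalize elw H839.Fi23.q7 ^ 3 = q at h1 h3 ⊢
  generalize elw y7 = y at h3 h4 h5 ⊢
  generalize el .g * (el .j * el .z) = s at e1 h1 h5 ⊢
  generalize el .g * el .z = r at e1 h4 ⊢
  have h6 : r * s * r⁻¹ = s⁻¹ := e1
  have h7 : y * r = r * y := h4
  have h8 : q * s⁻¹ = s⁻¹ * q := (show Commute q s from h1).inv_right.eq
  have h9 : y⁻¹ * s⁻¹ = s⁻¹ * y⁻¹ := (show Commute y s from h5).inv_inv.eq
  calc q * r * (y * s) * (q * r)⁻¹ = q * (r * y) * s * r⁻¹ * q⁻¹ := by group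
    _ = q * y * (r * s * r⁻¹) * q⁻¹ := by rw [← h7]; group
    _ = q * y * s⁻¹ * q⁻¹ := by rw [h6]
    _ = q * y * q⁻¹ * (q * s⁻¹) * q⁻¹ := by group
    _ = y⁻¹ * (s⁻¹ * q) * q⁻¹ := by rw [h3, h8]
    _ = y⁻¹ * s⁻¹ := by group
    _ = s⁻¹ * y⁻¹ := h9
    _ = (y * s)⁻¹ := by group

/-! ### T1 -/

theorem i4_of_prd {x y g u v : Fi23} (hu : u * u = 1) (hx : u * x * u⁻¹ = x⁻¹) (hv : v * v = 1)
    (hy : v * y * v⁻¹ = y⁻¹) (h : Prd x y g) : I4 g := by
  obtain ⟨a, b, rfl⟩ := h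
  have hu' : u⁻¹ = u := inv_eq_of_mul_eq_one_left hu
  have hv' : v⁻¹ = v := inv_eq_of_mul_eq_one_left hv
  have key : ∀ a w : Fi23, w * w = 1 → (a * w * a⁻¹) * (a * w * a⁻¹) = 1 := by
    intro a w hw
    calc (a * w * a⁻¹) * (a * w * a⁻¹) = a * (w * w) * a⁻¹ := by group
      _ = 1 := by rw [hw]; group
  have hux : u * x * (u * x) = 1 := by
    calc u * x * (u * x) = (u * x * u) * x := by group
      _ = (u * x * u⁻¹) * x := by rw [hu']
      _ = 1 := by rw [hx, inv_mul_cancel]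
  have hvy : v * y * (v * y) = 1 := by
    calc v * y * (v * y) = (v * y * v) * y := by group
      _ = (v * y * v⁻¹) * y := by rw [hv']
      _ = 1 := by rw [hy, inv_mul_cancel]
  refine ⟨a * u * a⁻¹, a * (u * x) * a⁻¹, b * v * b⁻¹, b * (v * y) * b⁻¹, key a u hu, key a _ hux, key b v hv,
    key b _ hvy, ?_⟩
  calc a * x * a⁻¹ * (b * y * b⁻¹) = a * (1 * x) * a⁻¹ * (b * (1 * y) * b⁻¹) := by rw [one_mul, one_mul]
    _ = a * ((u * u) * x) * a⁻¹ * (b * ((v * v) * y) * b⁻¹) := by rw [hu, hv]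
    _ = _ := by group

theorem prd_le {g : Fi23} (hc : Nat.card (centralizer ({g} : Set Fi23)) ≤ 152121389) : Prd (elw y17) y28 g := by
  classical
  have := H713.Spor.Fi23.finite_fi23
  have : Finite (IrrCharacter Fi23) := finite_irr
  have := Fintype.ofFinite (IrrCharacter Fi23)
  refine prd_of_sieve (d := (49335 : ℝ)) (by norm_num) ?_ ?_
  · intro χ h1 h2 h3
    have h4 := deg_ge χ h1 h2 h3
    rw [cast_deg, Complex.norm_natCast]
    exact_mod_cast h4
  · have hsum : ∑ χ : IrrCharacter Fi23, (‖(χ : Fi23 → ℂ) (elw y17)‖ * ‖(χ : Fi23 → ℂ) y28‖) ^ 2 ≤ 17 := by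
      have h := H686.CharKit.sum_normSq (G := Fi23) (elw y17)
      simp only [Complex.normSq_eq_norm_sq] at h
      rw [card17] at h
      have h' : ∑ χ : IrrCharacter Fi23, ‖(χ : Fi23 → ℂ) (elw y17)‖ ^ 2 = 17 := by
        rw [h]; norm_num
      rw [← h']
      refine Finset.sum_le_sum fun χ _ => ?_
      have hle : ‖(χ : Fi23 → ℂ) y28‖ ≤ 1 := by
        obtain ⟨c, i, hc, h4, -⟩ := vals28 χ
        rw [h4, Complex.norm_intCast]
        have : |c * v4 i| ≤ 1 := by
          rcases hc with rfl | rfl | rfl <;> fin_cases i <;> decide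
        exact_mod_cast this
      have h0 : 0 ≤ ‖(χ : Fi23 → ℂ) (elw y17)‖ := norm_nonneg _
      have h0' : 0 ≤ ‖(χ : Fi23 → ℂ) y28‖ := norm_nonneg _
      apply pow_le_pow_left₀ (by positivity)
      exact mul_le_of_le_one_right h0 hle
    have hc1 : (1 : ℝ) ≤ (Nat.card (centralizer ({g} : Set Fi23)) : ℝ) := by
      have : 1 ≤ Nat.card (centralizer ({g} : Set Fi23)) := Nat.card_pos
      exact_mod_cast this
    have hc2 : (Nat.card (centralizer ({g} : Set Fi23)) : ℝ) ≤ 152121389 := by exact_mod_cast hc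
    calc _ ≤ (17 - 1 : ℝ) * ((Nat.card (centralizer ({g} : Set Fi23)) : ℝ) - 1) := by
          apply mul_le_mul_of_nonneg_right _ (by linarith)
          linarith
      _ ≤ (17 - 1 : ℝ) * (152121389 - 1) := by
          apply mul_le_mul_of_nonneg_left _ (by norm_num)
          linarith
      _ < 49335 ^ 2 := by norm_num

/-- **T1 for four involutions** -/
theorem t1I {g : Fi23} (hc : Nat.card (centralizer ({g} : Set Fi23)) ≤ 152121389) : I4 g :=
  i4_of_prd u17_sq u17_conj u28_sq u28_conj (prd_le hc)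

end Cfsg.Agent.H856.F23
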