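import Cfsg.Agent.H822.Ore.Fi23Asm
import Cfsg.Agent.H856.F23.TI

/-!
# Row `Fi₂₃` of S4171 (products of four involutions), given the bounds for 2A and 2C (helper856)
-/

set_option autoImplicit false

namespace Cfsg.Agent.H856.F23

open Cfsg Subgroup
open Cfsg.Agent.KFacts.FiTTh.BasFi (e)
open Cfsg.Agent.H777.Ore Cfsg.Agent.H822.Ore.Fi23Row
open Cfsg.Agent.Fischer.Fi23Z (z0)
open Cfsg.Spor (Fi23)

theorem inv4_of (hA : Bd z0) {r r' r'' : ZMod 23} (h1 : r ≠ r') (h2 : r ≠ r'') (h3 : r' ≠ r'')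
    (hC : Bd (e (some r) * e (some r') * e (some r''))) : Inv4 Fi23 :=
  H822.Ore.Fi23Asm.all_four hA h1 h2 h3 hC fun _ hg => t1I (hg.trans (by norm_num))

/-- products of four involutions in every group isomorphic to `Fi₂₃`, given the two bounds -/
theorem four_Fi23_of (hA : Bd z0) {r r' r'' : ZMod 23} (h1 : r ≠ r') (h2 : r ≠ r'') (h3 : r' ≠ r'')
    (hC : Bd (e (some r) * e (some r') * e (some r''))) {S : Type*} [Group S] (h : Spor.IsoFi23 S) : Inv4 S := by
  obtain ⟨f⟩ := h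
  intro g
  obtain ⟨a, b, c, d, ha, hb, hc, hd, hg⟩ := inv4_of hA h1 h2 h3 hC (f g)
  refine ⟨f.symm a, f.symm b, f.symm c, f.symm d, ?_, ?_, ?_, ?_, ?_⟩
  · rw [← map_mul, ha, map_one]
  · rw [← map_mul, hb, map_one]
  · rw [← map_mul, hc, map_one]
  · rw [← map_mul, hd, map_one]
  · rw [← map_mul, ← map_mul, ← map_mul, ← hg, MulEquiv.symm_apply_apply]

end Cfsg.Agent.H856.F23
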