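import Cfsg.Agent.H856.F23.Loc
import Cfsg.Agent.H856.F23.Rel
import Cfsg.Agent.H839.ElevenMain
import Cfsg.Agent.Characters.CCBasic

/-!
# `Fi₂₃`: values modulo 11, from `C(11) = 11 × 2²` (helper856)

`vals11 χ`: `(χ 1, χ(2A), χ(2B)) ≡ c (1, 1, 1)` or `c (1, -1, 1)` (`c ∈ {0, ±1}`) or `c (2, 0, -2)`
(`c ∈ {±1, ±5}`) modulo 11. (The order of `C(11)` is computed as by helper892.)
-/

set_option autoImplicit false
set_option maxRecDepth 100000

namespace Cfsg.Agent.H856.F23

open Cfsg Subgroup Cfsg.Agent.Lib.PermNet Cfsg.Agent.Fischer.Fi23Hom Cfsg.Agent.LThreeFi23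
open Cfsg.Agent.Characters.Core
open Cfsg.Agent.H839 Cfsg.Agent.H839.Fi23
open Cfsg.Spor (Fi23)

theorem card_C11 : Nat.card (centralizer (X11 : Set Fi23)) = 44 := by
  by_cases h : ∃ w ∈ centralizer (X11 : Set Fi23), rho w 0 = 18119
  · exfalso
    obtain ⟨w, hw, hw0⟩ := h
    have h1 := index_two_pts (A := centralizer (X11 : Set Fi23))
      (fun w hw p hp => norm_fix (centralizer_le_normalizer _ hw) hp) hw hw0
    have h88 : Nat.card (centralizer (X11 : Set Fi23)) = 88 := by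
      rw [Count.card_of_index_two inf_le_left h1, card_C0]
    obtain ⟨C, hC⟩ : ∃ C, C = (centralizer (X11 : Set Fi23)).subgroupOf (normalizer (X11 : Set Fi23)) := ⟨_, rfl⟩
    have hCn : C.Normal := by
      rw [hC]
      infer_instance
    have hcC : Nat.card C = 88 := by
      rw [hC, ← h88]
      exact Nat.card_congr (subgroupOfEquivOfLe (centralizer_le_normalizer _)).toEquiv
    have hmul := C.card_mul_index
    rw [hcC, card_N11] at hmul
    have hi : C.index = 5 := by omega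
    have h2 := C.pow_index_mem (⟨elw t11, t11_mem⟩ : normalizer (X11 : Set Fi23))
    rw [hi, hC, mem_subgroupOf] at h2
    have h3 : elw t11 ^ 5 * elw y11 = elw y11 * elw t11 ^ 5 := mem_cent_zpowers.1 h2
    have h4 : elw t11 ^ 5 * elw y11 * (elw t11 ^ 5)⁻¹ = (elw y11)⁻¹ := by
      have a1 : ∀ g : Fi23, elw t11 * g * (elw t11)⁻¹ = MulAut.conj (elw t11) g := fun g => rfl
      have a2 := t11_conj
      rw [a1] at a2
      have a3 : elw t11 ^ 5 * elw y11 * (elw t11 ^ 5)⁻¹ = (MulAut.conj (elw t11) ^ 5) (elw y11) := by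
        rw [← map_pow]
        rfl
      rw [a3]
      show MulAut.conj (elw t11) (MulAut.conj (elw t11) (MulAut.conj (elw t11) (MulAut.conj (elw t11)
        (MulAut.conj (elw t11) (elw y11))))) = _
      simp only [a2, map_inv, inv_inv]
    rw [h3, mul_inv_cancel_right] at h4
    have h5 : elw y11 ^ 2 = 1 := by
      rw [pow_two]
      nth_rewrite 1 [h4]
      exact inv_mul_cancel _
    have h6 : elw y11 ^ 11 = 1 := pow11
    apply y11_ne
    calc elw y11 = elw y11 ^ 11 * (elw y11 ^ 2)⁻¹ ^ 5 := by group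
      _ = 1 := by rw [h6, h5]; simp
  · have h2 : centralizer (X11 : Set Fi23) ⊓ centralizer ({el .z} : Set Fi23) = centralizer (X11 : Set Fi23) := by
      rw [inf_eq_left]
      intro w hw
      rw [mem_cz]
      rcases norm_fix (centralizer_le_normalizer _ hw) (Or.inl rfl) with h1 | h1
      · exact h1
      · exact absurd ⟨w, hw, h1⟩ h
    rw [← h2]
    exact card_C0

theorem C11_fix {w : Fi23} (hw : w * elw y11 = elw y11 * w) : rho w 0 = 0 := by
  have := H713.Spor.Fi23.finite_fi23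
  have h : centralizer (X11 : Set Fi23) ⊓ centralizer ({el .z} : Set Fi23) = centralizer (X11 : Set Fi23) := by
    apply Subgroup.eq_of_le_of_card_ge inf_le_left
    rw [card_C0, card_C11]
  have h1 : w ∈ centralizer (X11 : Set Fi23) ⊓ centralizer ({el .z} : Set Fi23) := by
    rw [h]; exact mem_cent_zpowers.2 hw
  exact mem_cz.1 h1.2

theorem K4_mul_comm (a b : K4) : a * b = b * a := by
  apply Subtype.ext
  have h : ∀ g : Fi23, g = el .z ∨ g = tt → ∀ x ∈ K4, g * x = x * g := by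
    rintro g (rfl | rfl) x hx
    · exact K4_comm rfl z_tt hx
    · exact K4_comm z_tt.symm rfl hx
  exact K4_comm (h _ (Or.inl rfl) _ a.2).symm (h _ (Or.inr rfl) _ a.2).symm b.2

/-- elements of the normalizer fix or exchange the two transpositions -/
theorem norm_cases {w : Fi23} (hw : w ∈ normalizer (X11 : Set Fi23)) :
    (w * el .z * w⁻¹ = el .z ∧ w * tt * w⁻¹ = tt) ∨ (w * el .z * w⁻¹ = tt ∧ w * tt * w⁻¹ = el .z) := by
  have h1 := norm_fix hw (Or.inl rfl : (0 : ℕ) = 0 ∨ (0 : ℕ) = 18119)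
  have h2 := norm_fix hw (Or.inr rfl : (18119 : ℕ) = 0 ∨ (18119 : ℕ) = 18119)
  have e0 : T (rho w 0) = w * el .z * w⁻¹ := by rw [T_act w (by norm_num), T_zero]; rfl
  have e1 : T (rho w 18119) = w * tt * w⁻¹ := by rw [T_act w (by norm_num)]; rfl
  rw [← e0, ← e1]
  have hi : rho w 0 ≠ rho w 18119 := fun h => absurd ((rho w).injective h) (by norm_num)
  rcases h1 with h1 | h1 <;> rcases h2 with h2 | h2
  · exact absurd (h1.trans h2.symm) hi
  · left; rw [h1, h2]; exact ⟨T_zero, rfl⟩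
  · right; rw [h1, h2]; exact ⟨rfl, T_zero⟩
  · exact absurd (h1.trans h2.symm) hi

theorem t11_z : elw t11 * el .z * (elw t11)⁻¹ = tt := by
  have e0 : T (rho (elw t11) 0) = elw t11 * el .z * (elw t11)⁻¹ := by rw [T_act _ (by norm_num), T_zero]; rfl
  rw [← e0, t11_0]; rfl

/-- the value at the product of the two transpositions -/
theorem val_tz (χ : IrrCharacter Fi23) : (χ : Fi23 → ℂ) (el .z * tt) = (χ : Fi23 → ℂ) (el .g * el .z) := by
  have h : FF χ 18119 = (χ : Fi23 → ℂ) (tt * el .z) := rfl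
  rw [z_tt, ← h, FF_com χ (by norm_num) _ (by norm_num)]
  have h1 := Nat.eq_of_beq_eq_true z_tt_fix
  rw [ptw_eq, elw_one] at h1
  show rho (T 0) 18119 = 18119
  rw [T_zero]
  exact h1

open Cfsg.Agent.SmallSimple Cfsg.Agent.SmallSimple.ThetaSetup Cfsg.Agent.SmallSimple.TheoremC
open Cfsg.Agent.SmallSimple.TheoremCCor Cfsg.Agent.SmallSimple.ThetaOrtho

/-- **the values modulo 11** -/
theorem vals11 (χ : IrrCharacter Fi23) : ∃ (c : ℤ) (i : Fin 3),
    (c = 0 ∨ c = 1 ∨ c = -1 ∨ i = 2 ∧ (c = 5 ∨ c = -5)) ∧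
    (∀ a : ℤ, (χ : Fi23 → ℂ) 1 = a → (11 : ℤ) ∣ a - c * (![1, 1, 2] : Fin 3 → ℤ) i) ∧
    (∀ a : ℤ, (χ : Fi23 → ℂ) (el .z) = a → (11 : ℤ) ∣ a - c * (![1, -1, 0] : Fin 3 → ℤ) i) ∧
    (∀ a : ℤ, (χ : Fi23 → ℂ) (el .g * el .z) = a → (11 : ℤ) ∣ a - c * (![1, 1, -2] : Fin 3 → ℤ) i) := by
  classical
  have : Fact (Nat.Prime 11) := ⟨by norm_num⟩
  have := H713.Spor.Fi23.finite_fi23
  obtain ⟨P, hPy, hP⟩ := exists_syl (G := Fi23) (p := 11) card_X11 (by rw [card_G]; norm_num)
    (by rw [card_G]; norm_num)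
  have hK : IsComp 11 (P : Subgroup Fi23) K4 := isComp_of hPy hP (fun x hx => (K4_comm_y hx).symm)
    (fun w hw => cent11 hw (C11_fix hw)) (by rw [card_K4]; norm_num)
  have he := relIndex_of_card (P := P) (c := 44) (n := 440) (e := 10) (by rw [hPy]; exact card_C11)
    (by rw [hPy]; exact card_N11) (by norm_num) (by norm_num)
  obtain ⟨c, O, hc, h1⟩ := blk_full hK hP he χ
  have hval : ∀ (y : K4) (a s : ℤ) (x : Fi23), (χ : Fi23 → ℂ) x = a → (χ : Fi23 → ℂ) x = (χ : Fi23 → ℂ) y →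
      c * ∑ θ' ∈ O, (θ' : K4 → ℂ) y = ((c * s : ℤ) : ℂ) → (11 : ℤ) ∣ a - c * s := by
    intro y a s x ha hxy hs
    obtain ⟨z, hz, h⟩ := h1 y
    rw [← hxy, ha, hs] at h
    exact dvd_of_integral (q := 11) (by norm_num) ⟨z, hz, h⟩
  set zK : K4 := ⟨el .z, z_mem_K4⟩ with hzK
  set tK : K4 := ⟨tt, tt_mem_K4⟩ with htK
  have hzz : zK * zK = 1 := Subtype.ext (el_sq .z)
  have htt : tK * tK = 1 := Subtype.ext tt_sq
  rcases hc with rfl | ⟨θ, rfl, hc⟩
  · refine ⟨0, 0, Or.inl rfl, fun a ha => ?_, fun a ha => ?_, fun a ha => ?_⟩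
    · exact hval 1 a _ 1 ha (by simp) (by simp)
    · exact hval zK a _ (el .z) ha rfl (by simp)
    · exact hval (zK * tK) a _ (el .g * el .z) ha (val_tz χ).symm (by simp)
  · obtain ⟨F, hF⟩ := Characters.CCBasic.exists_hom_of_comm K4_mul_comm θ.2
    have hpm : ∀ u : K4, u * u = 1 → (θ : K4 → ℂ) u = 1 ∨ (θ : K4 → ℂ) u = -1 := by
      intro u hu
      have h2 : (θ : K4 → ℂ) u * (θ : K4 → ℂ) u = 1 := by
        rw [hF, ← Units.val_mul, ← map_mul, hu]; simp
      exact mul_self_eq_one_iff.1 h2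
    have hmul : ∀ u v : K4, (θ : K4 → ℂ) (u * v) = (θ : K4 → ℂ) u * (θ : K4 → ℂ) v := by
      intro u v; rw [hF]; simp
    have hone : (θ : K4 → ℂ) 1 = 1 := by rw [hF]; simp
    -- functions on `K4` are determined by the values at the two generators
    have hext : ∀ f f' : K4 → ℂ, (∀ u v, f (u * v) = f u * f v) → (∀ u v, f' (u * v) = f' u * f' v) →
        f 1 = 1 → f' 1 = 1 → f zK = f' zK → f tK = f' tK → f = f' := by
      intro f f' hf hf' h1f h1f' hz ht
      have key : ∀ x (hx : x ∈ K4), f ⟨x, hx⟩ = f' ⟨x, hx⟩ := by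
        intro x hx
        induction hx using closure_induction with
        | mem x hx =>
          rcases hx with rfl | rfl
          · exact hz
          · exact ht
        | one => exact h1f.trans h1f'.symm
        | mul x y hx hy ihx ihy =>
          have := hf ⟨x, hx⟩ ⟨y, hy⟩
          have h' := hf' ⟨x, hx⟩ ⟨y, hy⟩
          rw [ihx, ihy, ← h'] at this
          exact this
        | inv x hx ih =>
          have h2 : f ⟨x, hx⟩ * f (⟨x, hx⟩⁻¹) = 1 := by rw [← hf, mul_inv_cancel, h1f]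
          have h3 : f' ⟨x, hx⟩ * f' (⟨x, hx⟩⁻¹) = 1 := by rw [← hf', mul_inv_cancel, h1f']
          have h4 : f' ⟨x, hx⟩ ≠ 0 := left_ne_zero_of_mul_eq_one h3
          have h5 : f (⟨x, hx⟩⁻¹) = f' (⟨x, hx⟩⁻¹) := by
            apply mul_left_cancel₀ h4
            rw [h3, ← ih, h2]
          exact h5
      funext x
      exact key x x.2
    have htw : ∀ n (hn : n ∈ normalizer ((P : Subgroup Fi23) : Set Fi23)),
        (∀ u v, tw (θ : K4 → ℂ) n (u * v) = tw (θ : K4 → ℂ) n u * tw (θ : K4 → ℂ) n v) ∧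
        tw (θ : K4 → ℂ) n 1 = 1 ∧
        ((tw (θ : K4 → ℂ) n zK = (θ : K4 → ℂ) zK ∧ tw (θ : K4 → ℂ) n tK = (θ : K4 → ℂ) tK) ∨
          (tw (θ : K4 → ℂ) n zK = (θ : K4 → ℂ) tK ∧ tw (θ : K4 → ℂ) n tK = (θ : K4 → ℂ) zK)) := by
      intro n hn
      have hn' : n ∈ normalizer (X11 : Set Fi23) := by rw [hPy] at hn; exact hn
      refine ⟨fun u v => ?_, ?_, ?_⟩
      · rw [tw_apply hK _ hn, tw_apply hK _ hn, tw_apply hK _ hn, ← hmul]
        refine congrArg _ (Subtype.ext ?_)
        simp only [coe_mul]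
        group
      · rw [tw_apply hK _ hn, ← hone]
        refine congrArg _ (Subtype.ext ?_)
        simp
      · rw [tw_apply hK _ hn, tw_apply hK _ hn]
        rcases norm_cases hn' with ⟨a1, a2⟩ | ⟨a1, a2⟩
        · left
          exact ⟨congrArg _ (Subtype.ext a1), congrArg _ (Subtype.ext a2)⟩
        · right
          exact ⟨congrArg _ (Subtype.ext a1), congrArg _ (Subtype.ext a2)⟩
    by_cases hzt : (θ : K4 → ℂ) zK = (θ : K4 → ℂ) tK
    · -- stable
      have hst : ∀ n ∈ normalizer ((P : Subgroup Fi23) : Set Fi23), tw (θ : K4 → ℂ) n = θ := by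
        intro n hn
        obtain ⟨a1, a2, a3⟩ := htw n hn
        refine hext _ _ a1 hmul a2 hone ?_ ?_
        · rcases a3 with ⟨a3, -⟩ | ⟨a3, -⟩
          · exact a3
          · rw [a3, hzt]
        · rcases a3 with ⟨-, a3⟩ | ⟨-, a3⟩
          · exact a3
          · rw [a3, hzt]
      have hO : orb P K4 (θ : K4 → ℂ) = {θ} := orb_of_stable θ.2 hst
      rw [hO] at hc hval
      simp only [Finset.sum_singleton, Finset.card_singleton, mul_one] at hc hval
      -- replace `±10` by `∓1`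
      obtain ⟨c', hc', hcc⟩ : ∃ c' : ℤ, (c' = 0 ∨ c' = 1 ∨ c' = -1 ∨ (False ∧ (c' = 5 ∨ c' = -5))) ∧ (11 : ℤ) ∣ c - c' := by
        rcases hc with h | h | ⟨e, h, h' | h'⟩
        · exact ⟨1, by simp, by rw [h]; norm_num⟩
        · exact ⟨-1, by simp, by rw [h]; norm_num⟩
        · exact ⟨-1, by simp, by rw [h', h]; norm_num⟩
        · exact ⟨1, by simp, by rw [h', h]; norm_num⟩
      have hfin : ∀ a s : ℤ, (11 : ℤ) ∣ a - c * s → (11 : ℤ) ∣ a - c' * s := by
        intro a s h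
        have h2 : a - c' * s = (a - c * s) + (c - c') * s := by ring
        rw [h2]
        exact dvd_add h (dvd_mul_of_dvd_left hcc s)
      rcases hpm zK hzz with h2 | h2
      · refine ⟨c', 0, by tauto, fun a ha => ?_, fun a ha => ?_, fun a ha => ?_⟩ <;> apply hfin
        · exact hval 1 a _ 1 ha (by simp) (by rw [hone]; simp)
        · exact hval zK a _ (el .z) ha rfl (by rw [h2]; simp)
        · exact hval (zK * tK) a _ (el .g * el .z) ha (val_tz χ).symm (by rw [hmul, ← hzt, h2]; simp)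
      · refine ⟨c', 1, by tauto, fun a ha => ?_, fun a ha => ?_, fun a ha => ?_⟩ <;> apply hfin
        · exact hval 1 a _ 1 ha (by simp) (by rw [hone]; simp)
        · exact hval zK a _ (el .z) ha rfl (by rw [h2]; simp)
        · exact hval (zK * tK) a _ (el .g * el .z) ha (val_tz χ).symm (by rw [hmul, ← hzt, h2]; simp)
    · -- exchanged
      have hP11 : elw t11 ∈ normalizer ((P : Subgroup Fi23) : Set Fi23) := by rw [hPy]; exact t11_mem
      set θ' : IrrCharacter K4 := ⟨tw (θ : K4 → ℂ) (elw t11), isIrr_tw hK θ.2 hP11⟩ with hθ'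
      have b1 : (θ' : K4 → ℂ) zK = (θ : K4 → ℂ) tK ∧ (θ' : K4 → ℂ) tK = (θ : K4 → ℂ) zK := by
        have hz : tw (θ : K4 → ℂ) (elw t11) zK = (θ : K4 → ℂ) tK := by
          rw [tw_apply hK _ hP11]
          exact congrArg _ (Subtype.ext t11_z)
        obtain ⟨-, -, a3⟩ := htw _ hP11
        rcases a3 with ⟨a3, a4⟩ | ⟨a3, a4⟩
        · exact absurd (a3.symm.trans hz) hzt
        · exact ⟨a3, a4⟩
      obtain ⟨c1, c2, -⟩ := htw _ hP11
      have hne : θ ≠ θ' := by
        intro h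
        apply hzt
        rw [← b1.1, ← h]
      have hO : orb P K4 (θ : K4 → ℂ) = {θ, θ'} := by
        ext ψ
        rw [mem_orb, Finset.mem_insert, Finset.mem_singleton]
        constructor
        · rintro ⟨n, hn, h⟩
          obtain ⟨a1, a2, a3⟩ := htw n hn
          rcases a3 with ⟨a3, a4⟩ | ⟨a3, a4⟩
          · left
            apply Subtype.ext
            rw [← h]
            exact hext _ _ a1 hmul a2 hone a3 a4
          · right
            apply Subtype.ext
            rw [← h]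
            exact hext _ _ a1 c1 a2 c2 (a3.trans b1.1.symm) (a4.trans b1.2.symm)
        · rintro (rfl | rfl)
          · exact ⟨1, one_mem _, tw_one _⟩
          · exact ⟨_, hP11, rfl⟩
      rw [hO] at hc hval
      rw [Finset.card_pair hne] at hc
      simp only [Finset.sum_pair hne] at hval
      have d1 : (θ' : K4 → ℂ) 1 = 1 := c2
      have d2 : (θ' : K4 → ℂ) (zK * tK) = (θ' : K4 → ℂ) zK * (θ' : K4 → ℂ) tK := c1 _ _
      have hs : (θ : K4 → ℂ) zK + (θ : K4 → ℂ) tK = 0 ∧ (θ : K4 → ℂ) zK * (θ : K4 → ℂ) tK = -1 := by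
        rcases hpm zK hzz with h2 | h2 <;> rcases hpm tK htt with h3 | h3
        · exact absurd (h2.trans h3.symm) hzt
        · rw [h2, h3]; constructor <;> ring
        · rw [h2, h3]; constructor <;> ring
        · exact absurd (h2.trans h3.symm) hzt
      refine ⟨c, 2, ?_, fun a ha => ?_, fun a ha => ?_, fun a ha => ?_⟩
      · rcases hc with h | h | ⟨e, h, h'⟩
        · exact Or.inr (Or.inl h)
        · exact Or.inr (Or.inr (Or.inl h))
        · have h5 : e = 5 := by omega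
          subst h5
          exact Or.inr (Or.inr (Or.inr ⟨rfl, by simpa using h'⟩))
      · refine hval 1 a _ 1 ha (by simp) ?_
        rw [hone, d1]
        show _ = ((c * 2 : ℤ) : ℂ)
        push_cast; ring
      · refine hval zK a _ (el .z) ha rfl ?_
        rw [b1.1, hs.1]
        show _ = ((c * 0 : ℤ) : ℂ)
        push_cast; ring
      · refine hval (zK * tK) a _ (el .g * el .z) ha (val_tz χ).symm ?_
        rw [hmul, d2, b1.1, b1.2, mul_comm ((θ : K4 → ℂ) tK), hs.2]
        show _ = ((c * (-2) : ℤ) : ℂ)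
        push_cast; ring

end Cfsg.Agent.H856.F23
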