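import Cfsg.Agent.H856.F23.Loc
import Cfsg.Agent.H621.AltChar
import Cfsg.Agent.Characters.Brauer
import Cfsg.Agent.Characters.Linear
import Cfsg.Agent.H839.Thirteen
import Cfsg.Agent.H839.FrobGen
import Cfsg.Agent.H713.Spor.Fi23

/-!
# `Fi₂₃`: values modulo 13, from `C(13) = 13 × S₃` (helper856)

`vals13 χ`: `(χ 1, χ (12), χ (123)) ≡ c (θ 1, θ (12), θ (123))` modulo 13, `c ∈ {0, ±1, ±6}`, `θ ∈ Irr S₃`.
-/

set_option autoImplicit false
set_option maxRecDepth 100000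

namespace Cfsg.Agent.H856.F23

open Cfsg Subgroup Cfsg.Agent.Lib.PermNet Cfsg.Agent.Fischer.Fi23Hom Cfsg.Agent.LThreeFi23
open Cfsg.Agent.H838.Fi23 (SL el_mem elw_mem DD)
open Cfsg.Agent.Characters.Core
open Cfsg.Spor (Fi23)
open scoped ComplexConjugate

/-! ### The table of `S₃` -/

abbrev S3 : Type := Equiv.Perm (Fin 3)

/-- fixed points -/
def nfx3 (σ : S3) : ℤ := ((Finset.univ.filter fun i => σ i = i).card : ℤ)
/-- the sign -/
def sg3 (σ : S3) : ℤ := ((Equiv.Perm.sign σ : ℤˣ) : ℤ)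

/-- the table -/
def tab3 : Fin 3 → S3 → ℤ
  | 0, _ => 1
  | 1, σ => sg3 σ
  | 2, σ => nfx3 σ - 1

theorem sq_tab3 : ∀ i : Fin 3, ∑ σ : S3, tab3 i σ ^ 2 = 6 := by decide +kernel

theorem one_tab3 : ∀ i : Fin 3, 0 < tab3 i 1 := by decide +kernel

theorem reg_tab3 : ∀ σ : S3, ∑ i : Fin 3, tab3 i 1 * tab3 i σ = if σ = 1 then 6 else 0 := by decide +kernel

/-- the sign as a homomorphism to `ℂˣ` -/
noncomputable def sgHom3 : S3 →* ℂˣ := (Units.map (Int.castRingHom ℂ).toMonoidHom).comp Equiv.Perm.sign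

theorem nf_eq3 (σ : S3) : (H621.AltChar.nf (Fin 3) σ : ℤ) = nfx3 σ := by
  unfold H621.AltChar.nf nfx3
  rw [Nat.card_eq_fintype_card, Fintype.card_subtype]
  rfl

theorem gen_tab3 : ∀ i : Fin 3, IsGeneralizedCharacter S3 (fun σ => (tab3 i σ : ℂ)) := by
  intro i
  fin_cases i
  · have h := Characters.Brauer.isGeneralizedCharacter_of_isCharacter (isCharacter_one (G := S3))
    convert h using 1
    funext σ
    show ((1 : ℤ) : ℂ) = 1
    simp
  · exact Characters.Brauer.isGeneralizedCharacter_of_isCharacter (Characters.Linear.isCharacter_hom sgHom3)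
  · refine ⟨_, _, H621.AltChar.isCharacter_nf S3 (Fin 3), isCharacter_one, ?_⟩
    funext σ
    show ((nfx3 σ - 1 : ℤ) : ℂ) = _
    rw [← nf_eq3]
    push_cast
    rfl

theorem card_S3' : Nat.card S3 = 6 := by
  rw [Nat.card_perm, Nat.card_fin]; decide

theorem irr_tab3 (i : Fin 3) : IsIrrCharacter S3 (fun σ => (tab3 i σ : ℂ)) :=
  H621.AltChar.isIrr_of_int S3 (gen_tab3 i) (tab3 i) (fun _ => rfl) (by rw [card_S3']; exact_mod_cast sq_tab3 i)
    (one_tab3 i)

/-- the table is complete -/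
theorem tab3_complete {θ : S3 → ℂ} (hθ : IsIrrCharacter S3 θ) : ∃ i, ∀ σ, θ σ = tab3 i σ := by
  by_contra hcon
  push Not at hcon
  have h0 : ∀ i : Fin 3, classInner θ (fun σ => (tab3 i σ : ℂ)) = 0 := by
    intro i
    refine classInner_irr_ne hθ (irr_tab3 i) ?_
    rintro rfl
    obtain ⟨σ, hσ⟩ := hcon i
    exact hσ rfl
  have h1 : classInner θ (∑ i : Fin 3, (tab3 i 1 : ℂ) • fun σ => (tab3 i σ : ℂ)) = 0 := by
    rw [classInner_sum_right]
    refine Finset.sum_eq_zero fun i _ => ?_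
    rw [classInner_smul_right, h0, mul_zero]
  have h2 : (∑ i : Fin 3, (tab3 i 1 : ℂ) • fun σ => (tab3 i σ : ℂ)) = fun σ : S3 => if σ = 1 then (6 : ℂ) else 0 := by
    funext σ
    have h := congrArg (Int.cast : ℤ → ℂ) (reg_tab3 σ)
    rw [Finset.sum_apply]
    simp only [Pi.smul_apply, smul_eq_mul]
    push_cast at h
    rw [h]
  rw [h2, classInner_def] at h1
  have h3 : ∑ g : S3, θ g * conj (if g = 1 then (6 : ℂ) else 0) = θ 1 * 6 := by
    rw [Finset.sum_eq_single (1 : S3)]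
    · rw [if_pos rfl]
      have h5 : conj (6 : ℂ) = 6 := by
        have := Complex.conj_natCast 6
        exact_mod_cast this
      rw [h5]
    · intro b _ hb
      rw [if_neg hb]; simp
    · intro h; exact absurd (Finset.mem_univ _) h
  rw [h3] at h1
  have h4 := isIrr_apply_one_ne_zero hθ
  have h5 : (Nat.card S3 : ℂ)⁻¹ ≠ 0 := inv_ne_zero card_ne_zero_complex
  exact (mul_ne_zero h5 (mul_ne_zero h4 (by norm_num))) h1

theorem tab3_one : ∀ i : Fin 3, tab3 i 1 = (![1, 1, 2] : Fin 3 → ℤ) i := by decide +kernel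
theorem tab3_two : ∀ i : Fin 3, ∀ σ : S3, σ * σ = 1 → σ ≠ 1 → tab3 i σ = (![1, -1, 0] : Fin 3 → ℤ) i := by
  decide +kernel
theorem tab3_three : ∀ i : Fin 3, ∀ σ : S3, σ * σ * σ = 1 → σ ≠ 1 → tab3 i σ = (![1, 1, -1] : Fin 3 → ℤ) i := by
  decide +kernel

/-! ### `13 × S₃` -/

theorem ns13 : ∃ F : Subgroup Fi23, Nat.card F = 78 ∧
    NS (zpowers (elw y13)) F (SL H839.Fi23.L3) := by
  obtain ⟨F, h1, h2, h3, h4, h5, h6, -⟩ := H839.Fi23.normStr_y13
  rw [H839.Fi23.closure_y13] at h5 h6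
  exact ⟨F, h1, h2, h3, h5, h6⟩

theorem card_C13 : Nat.card (centralizer ((zpowers (elw y13) : Subgroup Fi23) : Set Fi23)) = 78 := by
  have := H713.Spor.Fi23.finite_fi23
  rw [H839.FrobGen.card_cent (by norm_num : Nat.Prime 13) pow13 y13_ne
    (fun x hx => (H839.Fi23.S3_comm_y13 hx).symm) (fun w hw => H839.Fi23.cent13 hw) H839.Fi23.y13_pow_S3,
    H839.Fi23.card_S3]

theorem card_N13 : Nat.card (normalizer ((zpowers (elw y13) : Subgroup Fi23) : Set Fi23)) = 468 := by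
  have := H713.Spor.Fi23.finite_fi23
  obtain ⟨F, h1, h2, h3, h4, h5, h6, -⟩ := H839.Fi23.normStr_y13
  rw [H839.Fi23.closure_y13] at h4 h5 h6
  rw [← h6, H839.Count.card_sup_of_comm h5 h4, h1, H839.Fi23.card_S3]

theorem z_mem3 : el .z ∈ SL H839.Fi23.L3 := el_mem (by decide)
theorem j_mem3 : el .j ∈ SL H839.Fi23.L3 := el_mem (by decide)

theorem z_ne_one : el .z ≠ 1 := by
  have := H839.Fi23.T_ne_one (p := 0) (by norm_num)
  rwa [T_zero] at this

theorem jz_ne_one : el .j * el .z ≠ 1 := by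
  intro h
  have h1 : el .j = el .z := by
    have h2 : el .j * el .z * el .z = el .z := by rw [h, one_mul]
    rwa [mul_assoc, el_sq, mul_one] at h2
  exact absurd (H838.Fi23.el_inj h1) (by decide)

theorem jz_cube : el .j * el .z * (el .j * el .z) * (el .j * el .z) = 1 := by
  have h := Cfsg.Agent.H838.Fi23.lt_braid .j .z (by decide)
  have hj := el_sq .j
  have hz := el_sq .z
  calc el .j * el .z * (el .j * el .z) * (el .j * el .z) = (el .j * el .z * el .j) * (el .z * el .j * el .z) := by group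
    _ = (el .z * el .j * el .z) * (el .z * el .j * el .z) := by rw [h]
    _ = el .z * el .j * (el .z * el .z) * el .j * el .z := by group
    _ = el .z * (el .j * el .j) * el .z := by rw [hz]; group
    _ = 1 := by rw [hj, mul_one, hz]

open Cfsg.Agent.SmallSimple Cfsg.Agent.SmallSimple.ThetaSetup

/-- **the values at `S₃` modulo 13** -/
theorem vals13 (χ : IrrCharacter Fi23) : ∃ (c : ℤ) (i : Fin 3),
    (c = 0 ∨ c = 1 ∨ c = -1 ∨ c = 6 ∨ c = -6) ∧
    (∀ a : ℤ, (χ : Fi23 → ℂ) 1 = a → (13 : ℤ) ∣ a - c * (![1, 1, 2] : Fin 3 → ℤ) i) ∧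
    (∀ a : ℤ, (χ : Fi23 → ℂ) (el .z) = a → (13 : ℤ) ∣ a - c * (![1, -1, 0] : Fin 3 → ℤ) i) ∧
    (∀ a : ℤ, (χ : Fi23 → ℂ) (el .j * el .z) = a → (13 : ℤ) ∣ a - c * (![1, 1, -1] : Fin 3 → ℤ) i) := by
  have : Fact (Nat.Prime 13) := ⟨by norm_num⟩
  have := H713.Spor.Fi23.finite_fi23
  obtain ⟨P, hPy, hP⟩ := exists_syl (G := Fi23) (p := 13) H839.Fi23.card_y13 (by rw [card_G]; norm_num)
    (by rw [card_G]; norm_num)
  obtain ⟨F, -, hNS⟩ := ns13
  rw [← hPy] at hNS
  have hS13 : ¬ 13 ∣ Nat.card (SL H839.Fi23.L3) := by rw [H839.Fi23.card_S3]; norm_num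
  have hK := hNS.isComp hP hS13
  have he := relIndex_of_card (P := P) (c := 78) (n := 468) (e := 6) (by rw [hPy]; exact card_C13)
    (by rw [hPy]; exact card_N13) (by norm_num) (by norm_num)
  obtain ⟨c, θ, hc, h1, -⟩ := blk_gen hK hP
    (fun θ n hn => hNS.stable hK (isIrr_isClassFunction θ.2) hn) he (t := 2) (by norm_num) χ
  obtain ⟨e3⟩ := H839.Fi23.S3_equiv
  obtain ⟨i, hi⟩ := tab3_complete (isIrr_comp e3.symm.toMonoidHom e3.symm.surjective θ.2)
  have hθ : ∀ y : SL H839.Fi23.L3, (θ : SL H839.Fi23.L3 → ℂ) y = tab3 i (e3 y) := by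
    intro y
    have := hi (e3 y)
    simpa using this
  have key : ∀ (y : SL H839.Fi23.L3) (a : ℤ), (χ : Fi23 → ℂ) y = a → (13 : ℤ) ∣ a - c * tab3 i (e3 y) := by
    intro y a ha
    obtain ⟨z, hz, h⟩ := h1 y
    rw [ha, hθ] at h
    refine dvd_of_integral (q := 13) (by norm_num) ⟨z, hz, ?_⟩
    rw [h]
    push_cast
    ring
  refine ⟨c, i, ?_, fun a ha => ?_, fun a ha => ?_, fun a ha => ?_⟩
  · simpa using hc
  · have := key 1 a (by simpa using ha)
    rwa [map_one, tab3_one] at this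
  · have := key ⟨el .z, z_mem3⟩ a ha
    rwa [tab3_two] at this
    · rw [← map_mul, ← map_one e3]
      congr 1
      exact Subtype.ext (el_sq .z)
    · rw [Ne, ← map_one e3, e3.injective.eq_iff]
      exact fun h => z_ne_one (congrArg Subtype.val h)
  · have := key ⟨el .j * el .z, mul_mem j_mem3 z_mem3⟩ a ha
    rwa [tab3_three] at this
    · rw [← map_mul, ← map_mul, ← map_one e3]
      congr 1
      exact Subtype.ext jz_cube
    · rw [Ne, ← map_one e3, e3.injective.eq_iff]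
      exact fun h => jz_ne_one (congrArg Subtype.val h)

end Cfsg.Agent.H856.F23
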