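import Cfsg.Agent.H856.F23.Num
import Cfsg.Agent.H856.F23.V7
import Cfsg.Agent.H856.F23.V13
import Cfsg.Agent.H856.F23.V11

/-!
# `Fi₂₃`: the values at `1, 2A, 2B, 3A` (helper856)

* `vals χ` : multiplicities of `S₅`, the quadratic relation, the divisibility, the residues modulo 7, 13, 11;
* `dat χ` : the same as `Dat`;
* `val_T`, `val_com`, `val_ncom` : the classes of transpositions and of products of two transpositions.
-/

set_option autoImplicit false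
set_option maxRecDepth 100000

namespace Cfsg.Agent.H856.F23

open Cfsg Subgroup Cfsg.Agent.Lib.PermNet Cfsg.Agent.Fischer.Fi23Hom Cfsg.Agent.LThreeFi23
open Cfsg.Agent.Characters.Core
open Cfsg.Spor (Fi23)

/-! ### classes of products of two transpositions -/

theorem val_T (χ : IrrCharacter Fi23) {p : ℕ} (hp : p < 31671) : (χ : Fi23 → ℂ) (T p) = (χ : Fi23 → ℂ) (el .z) := by
  obtain ⟨k, rfl⟩ := exists_rep hp
  refine (conj_eq χ (g := k) ?_).symm
  rw [T_act k (by norm_num), T0]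

theorem val_mul (χ : IrrCharacter Fi23) {p q : ℕ} (hp : p < 31671) (hq : q < 31671) :
    ∃ r, r < 31671 ∧ (Com 0 r ↔ Com q p) ∧ (r = 0 ↔ p = q) ∧ (χ : Fi23 → ℂ) (T p * T q) = FF χ r := by
  obtain ⟨k, rfl⟩ := exists_rep hq
  have hz : rho k⁻¹ (rho k 0) = 0 := by
    rw [map_inv, Equiv.Perm.inv_eq_iff_eq]
  refine ⟨rho k⁻¹ p, act_lt _ hp, ?_, ?_, ?_⟩
  · have := com_act k⁻¹ (p := rho k 0) (q := p) (act_lt k (by norm_num))
    rwa [hz] at this
  · constructor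
    · intro h
      rw [map_inv, Equiv.Perm.inv_eq_iff_eq] at h
      exact h
    · rintro rfl
      exact hz
  · unfold FF
    refine conj_eq χ (g := k⁻¹) ?_
    rw [T_act _ hp, T_act k (by norm_num), T0]
    group

/-- products of two distinct commuting transpositions -/
theorem val_com (χ : IrrCharacter Fi23) {p q : ℕ} (hp : p < 31671) (hq : q < 31671) (h : Com q p) (hne : p ≠ q) :
    (χ : Fi23 → ℂ) (T p * T q) = (χ : Fi23 → ℂ) (el .g * el .z) := by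
  obtain ⟨r, h1, h2, h3, h4⟩ := val_mul χ hp hq
  rw [h4, FF_com χ h1 (h2.2 h) (fun h5 => hne (h3.1 h5))]

/-- products of two transpositions that do not commute -/
theorem val_ncom (χ : IrrCharacter Fi23) {p q : ℕ} (hp : p < 31671) (hq : q < 31671) (h : ¬ Com q p) :
    (χ : Fi23 → ℂ) (T p * T q) = (χ : Fi23 → ℂ) (el .j * el .z) := by
  obtain ⟨r, h1, h2, -, h4⟩ := val_mul χ hp hq
  rw [h4, FF_ncom χ h1 (fun h5 => h (h2.1 h5))]

/-! ### the residues -/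

/-- values of `Irr S₅` at `1, (12), (12)(34), (123)` -/
def q7 : List (ℤ × ℤ × ℤ × ℤ) :=
  [(1, 1, 1, 1), (1, -1, 1, 1), (4, 2, 0, 1), (4, -2, 0, 1), (5, 1, 1, -1), (5, -1, 1, -1), (6, 0, -2, 0)]

/-- the residues modulo 7 -/
def C7 (f A B T : ℤ) : Bool :=
  [(0 : ℤ), 1, -1].any fun c => q7.any fun t => (f - c * t.1) % 7 == 0 && ((A - c * t.2.1) % 7 == 0 &&
    ((B - c * t.2.2.1) % 7 == 0 && (T - c * t.2.2.2) % 7 == 0))

/-- the residues modulo 13 -/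
def C13 (f A T : ℤ) : Bool :=
  [(0 : ℤ), 1, -1, 6, -6].any fun c => [((1 : ℤ), (1 : ℤ), (1 : ℤ)), (1, -1, 1), (2, 0, -1)].any fun t =>
    (f - c * t.1) % 13 == 0 && ((A - c * t.2.1) % 13 == 0 && (T - c * t.2.2) % 13 == 0)

/-- the residues modulo 11 -/
def C11 (f A B : ℤ) : Bool :=
  [((0 : ℤ), (0 : ℤ), (0 : ℤ)), (1, 1, 1), (-1, -1, -1), (1, -1, 1), (-1, 1, -1), (2, 0, -2), (-2, 0, 2), (1, 0, -1),
    (-1, 0, 1)].any fun t => (f - t.1) % 11 == 0 && ((A - t.2.1) % 11 == 0 && (B - t.2.2) % 11 == 0)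

/-- the values at `1, (12), (12)(34), (123), (1234)` in the order of `tab` -/
def v1 : Fin 7 → ℤ := ![1, 1, 4, 4, 5, 5, 6]
def v2 : Fin 7 → ℤ := ![1, -1, 2, -2, 1, -1, 0]
def v22 : Fin 7 → ℤ := ![1, 1, 0, 0, 1, 1, -2]
def v3 : Fin 7 → ℤ := ![1, 1, 1, 1, -1, -1, 0]
def v4 : Fin 7 → ℤ := ![1, -1, 0, 0, -1, 1, 0]

theorem tab_v1 : ∀ i, tab i 1 = v1 i := by decide +kernel
theorem tab_v2 : ∀ i, tab i (Equiv.swap 0 1) = v2 i := by decide +kernel
theorem tab_v22 : ∀ i, tab i (Equiv.swap 2 3 * Equiv.swap 0 1) = v22 i := by decide +kernel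
theorem tab_v3 : ∀ i, tab i (Equiv.swap 1 2 * Equiv.swap 0 1) = v3 i := by decide +kernel
theorem tab_v4 : ∀ i, tab i (Equiv.swap 2 3 * (Equiv.swap 1 2 * Equiv.swap 0 1)) = v4 i := by decide +kernel

theorem q7_mem : ∀ i, (v1 i, v2 i, v22 i, v3 i) ∈ q7 := by decide +kernel

theorem q13_mem : ∀ i : Fin 3, ((![1, 1, 2] : Fin 3 → ℤ) i, (![1, -1, 0] : Fin 3 → ℤ) i,
    (![1, 1, -1] : Fin 3 → ℤ) i) ∈ [((1 : ℤ), (1 : ℤ), (1 : ℤ)), (1, -1, 1), (2, 0, -1)] := by decide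

theorem f5_22 : f5 (Equiv.swap 2 3 * Equiv.swap 0 1) = el .g * el .z := by rw [map_mul, f5_g, f5_z]
theorem f5_3 : f5 (Equiv.swap 1 2 * Equiv.swap 0 1) = el .j * el .z := by rw [map_mul, f5_j, f5_z]

theorem C11_of {f A B c : ℤ} (i : Fin 3) (hc : c = 0 ∨ c = 1 ∨ c = -1 ∨ i = 2 ∧ (c = 5 ∨ c = -5))
    (h1 : (11 : ℤ) ∣ f - c * (![1, 1, 2] : Fin 3 → ℤ) i) (h2 : (11 : ℤ) ∣ A - c * (![1, -1, 0] : Fin 3 → ℤ) i)
    (h3 : (11 : ℤ) ∣ B - c * (![1, 1, -2] : Fin 3 → ℤ) i) : C11 f A B = true := by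
  unfold C11
  rw [List.any_eq_true]
  have key : ∀ t : ℤ × ℤ × ℤ, (f - t.1) % 11 = 0 → (A - t.2.1) % 11 = 0 → (B - t.2.2) % 11 = 0 →
      t ∈ [((0 : ℤ), (0 : ℤ), (0 : ℤ)), (1, 1, 1), (-1, -1, -1), (1, -1, 1), (-1, 1, -1), (2, 0, -2), (-2, 0, 2),
        (1, 0, -1), (-1, 0, 1)] → ∃ x ∈ [((0 : ℤ), (0 : ℤ), (0 : ℤ)), (1, 1, 1), (-1, -1, -1), (1, -1, 1), (-1, 1, -1),
          (2, 0, -2), (-2, 0, 2), (1, 0, -1), (-1, 0, 1)], ((f - x.1) % 11 == 0 && ((A - x.2.1) % 11 == 0 &&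
            (B - x.2.2) % 11 == 0)) = true := by
    intro t a1 a2 a3 ht
    exact ⟨t, ht, by simp only [Bool.and_eq_true, beq_iff_eq]; exact ⟨a1, a2, a3⟩⟩
  fin_cases i
  · replace h1 : (11 : ℤ) ∣ f - c * 1 := h1
    replace h2 : (11 : ℤ) ∣ A - c * 1 := h2
    replace h3 : (11 : ℤ) ∣ B - c * 1 := h3
    rcases hc with rfl | rfl | rfl | ⟨h, -⟩
    · exact key (0, 0, 0) (by show (f - 0) % 11 = 0; omega) (by show (A - 0) % 11 = 0; omega)
        (by show (B - 0) % 11 = 0; omega) (by decide)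
    · exact key (1, 1, 1) (by show (f - 1) % 11 = 0; omega) (by show (A - 1) % 11 = 0; omega)
        (by show (B - 1) % 11 = 0; omega) (by decide)
    · exact key (-1, -1, -1) (by show (f - (-1)) % 11 = 0; omega) (by show (A - (-1)) % 11 = 0; omega)
        (by show (B - (-1)) % 11 = 0; omega) (by decide)
    · exact absurd h (by decide)
  · replace h1 : (11 : ℤ) ∣ f - c * 1 := h1
    replace h2 : (11 : ℤ) ∣ A - c * (-1) := h2
    replace h3 : (11 : ℤ) ∣ B - c * 1 := h3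
    rcases hc with rfl | rfl | rfl | ⟨h, -⟩
    · exact key (0, 0, 0) (by show (f - 0) % 11 = 0; omega) (by show (A - 0) % 11 = 0; omega)
        (by show (B - 0) % 11 = 0; omega) (by decide)
    · exact key (1, -1, 1) (by show (f - 1) % 11 = 0; omega) (by show (A - (-1)) % 11 = 0; omega)
        (by show (B - 1) % 11 = 0; omega) (by decide)
    · exact key (-1, 1, -1) (by show (f - (-1)) % 11 = 0; omega) (by show (A - 1) % 11 = 0; omega)
        (by show (B - (-1)) % 11 = 0; omega) (by decide)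
    · exact absurd h (by decide)
  · replace h1 : (11 : ℤ) ∣ f - c * 2 := h1
    replace h2 : (11 : ℤ) ∣ A - c * 0 := h2
    replace h3 : (11 : ℤ) ∣ B - c * (-2) := h3
    rcases hc with rfl | rfl | rfl | ⟨-, rfl | rfl⟩
    · exact key (0, 0, 0) (by show (f - 0) % 11 = 0; omega) (by show (A - 0) % 11 = 0; omega)
        (by show (B - 0) % 11 = 0; omega) (by decide)
    · exact key (2, 0, -2) (by show (f - 2) % 11 = 0; omega) (by show (A - 0) % 11 = 0; omega)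
        (by show (B - (-2)) % 11 = 0; omega) (by decide)
    · exact key (-2, 0, 2) (by show (f - (-2)) % 11 = 0; omega) (by show (A - 0) % 11 = 0; omega)
        (by show (B - 2) % 11 = 0; omega) (by decide)
    · exact key (-1, 0, 1) (by show (f - (-1)) % 11 = 0; omega) (by show (A - 0) % 11 = 0; omega)
        (by show (B - 1) % 11 = 0; omega) (by decide)
    · exact key (1, 0, -1) (by show (f - 1) % 11 = 0; omega) (by show (A - 0) % 11 = 0; omega)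
        (by show (B - (-1)) % 11 = 0; omega) (by decide)

/-- **the values of an irreducible character of `Fi₂₃` at `1, 2A, 2B, 3A`** -/
theorem vals (χ : IrrCharacter Fi23) : ∃ (f : ℕ) (A B T : ℤ) (m : Fin 7 → ℕ),
    ((χ : Fi23 → ℂ) 1 = f ∧ (χ : Fi23 → ℂ) (el .z) = A ∧ (χ : Fi23 → ℂ) (el .g * el .z) = B ∧
      (χ : Fi23 → ℂ) (el .j * el .z) = T) ∧
    ((f : ℤ) = m 0 + m 1 + 4 * m 2 + 4 * m 3 + 5 * m 4 + 5 * m 5 + 6 * m 6 ∧
      A = m 0 - m 1 + 2 * m 2 - 2 * m 3 + m 4 - m 5 ∧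
      B = m 0 + m 1 + m 4 + m 5 - 2 * m 6 ∧
      T = m 0 + m 1 + m 2 + m 3 - m 4 - m 5) ∧
    31671 * (A * A) = f * (f + 3510 * B + 28160 * T) ∧ (f : ℤ) ∣ 31671 * A ∧
    C7 f A B T = true ∧ C13 f A T = true ∧ C11 f A B = true := by
  obtain ⟨m, c, i, hc, h1, h2, -⟩ := vals7 χ
  obtain ⟨f, -, hf⟩ := isIrr_apply_one χ.2
  have e1 := h1 1
  have e2 := h1 (Equiv.swap 0 1)
  have e3 := h1 (Equiv.swap 2 3 * Equiv.swap 0 1)
  have e4 := h1 (Equiv.swap 1 2 * Equiv.swap 0 1)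
  have g1 := h2 1
  have g2 := h2 (Equiv.swap 0 1)
  have g3 := h2 (Equiv.swap 2 3 * Equiv.swap 0 1)
  have g4 := h2 (Equiv.swap 1 2 * Equiv.swap 0 1)
  simp only [tab_v1] at e1 g1
  simp only [tab_v2] at e2 g2
  simp only [tab_v22] at e3 g3
  simp only [tab_v3] at e4 g4
  rw [map_one] at e1
  rw [f5_z] at e2
  rw [f5_22] at e3
  rw [f5_3] at e4
  have hfm : (f : ℤ) = ∑ j : Fin 7, (m j : ℤ) * v1 j := by
    have : ((f : ℤ) : ℂ) = ((∑ j : Fin 7, (m j : ℤ) * v1 j : ℤ) : ℂ) := by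
      rw [← e1, hf]; push_cast; rfl
    exact_mod_cast this
  refine ⟨f, _, _, _, m, ⟨hf, e2, e3, e4⟩, ⟨?_, ?_, ?_, ?_⟩, ?_, dvd_of_values χ hf e2, ?_, ?_, ?_⟩
  · rw [hfm]; simp only [Fin.sum_univ_succ, v1]; simp; ring
  · simp only [Fin.sum_univ_succ, v2]; simp; ring
  · simp only [Fin.sum_univ_succ, v22]; simp; ring
  · simp only [Fin.sum_univ_succ, v3]; simp; ring
  · have h := rel χ
    rw [hf, e2, e3, e4] at h
    exact_mod_cast h
  · unfold C7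
    rw [List.any_eq_true]
    refine ⟨c, ?_, ?_⟩
    · rcases hc with rfl | rfl | rfl <;> decide
    · rw [List.any_eq_true]
      refine ⟨_, q7_mem i, ?_⟩
      simp only [Bool.and_eq_true, beq_iff_eq]
      rw [hfm]
      exact ⟨Int.emod_eq_zero_of_dvd g1, Int.emod_eq_zero_of_dvd g2, Int.emod_eq_zero_of_dvd g3,
        Int.emod_eq_zero_of_dvd g4⟩
  · obtain ⟨c', i', hc', a1, a2, a3⟩ := vals13 χ
    have b1 := a1 f (by rw [hf]; push_cast; rfl)
    have b2 := a2 _ e2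
    have b3 := a3 _ e4
    unfold C13
    rw [List.any_eq_true]
    refine ⟨c', ?_, ?_⟩
    · rcases hc' with rfl | rfl | rfl | rfl | rfl <;> decide
    · rw [List.any_eq_true]
      refine ⟨((![1, 1, 2] : Fin 3 → ℤ) i', (![1, -1, 0] : Fin 3 → ℤ) i', (![1, 1, -1] : Fin 3 → ℤ) i'), ?_, ?_⟩
      · exact q13_mem i'
      · simp only [Bool.and_eq_true, beq_iff_eq]
        exact ⟨Int.emod_eq_zero_of_dvd b1, Int.emod_eq_zero_of_dvd b2, Int.emod_eq_zero_of_dvd b3⟩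
  · obtain ⟨c', i', hc', a1, a2, a3⟩ := vals11 χ
    exact C11_of i' hc' (a1 f (by rw [hf]; push_cast; rfl)) (a2 _ e2) (a3 _ e3)

theorem c7_of {f A B T : ℤ} (h : C7 f A B T = true) : c7 f A B = true := by
  unfold C7 at h
  rw [List.any_eq_true] at h
  obtain ⟨c, hc, h⟩ := h
  rw [List.any_eq_true] at h
  obtain ⟨t, ht, h⟩ := h
  simp only [Bool.and_eq_true, beq_iff_eq] at h
  obtain ⟨h1, h2, h3, -⟩ := h
  unfold c7
  rw [List.any_eq_true]
  refine ⟨c, hc, ?_⟩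
  rw [List.any_eq_true]
  refine ⟨(t.1, t.2.1, t.2.2.1), ?_, ?_⟩
  · have : ∀ t ∈ q7, (t.1, t.2.1, t.2.2.1) ∈ t7 := by decide +kernel
    exact this t ht
  · simp only [Bool.and_eq_true, beq_iff_eq]
    exact ⟨h1, h2, h3⟩

theorem c13_of {f A T : ℤ} (h : C13 f A T = true) : c13 f A = true := by
  unfold C13 at h
  rw [List.any_eq_true] at h
  obtain ⟨c, hc, h⟩ := h
  rw [List.any_eq_true] at h
  obtain ⟨t, ht, h⟩ := h
  simp only [Bool.and_eq_true, beq_iff_eq] at h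
  obtain ⟨h1, h2, -⟩ := h
  unfold c13
  rw [List.any_eq_true]
  refine ⟨c, hc, ?_⟩
  rw [List.any_eq_true]
  refine ⟨(t.1, t.2.1), ?_, ?_⟩
  · have : ∀ t ∈ [((1 : ℤ), (1 : ℤ), (1 : ℤ)), (1, -1, 1), (2, 0, -1)], (t.1, t.2.1) ∈ t13 := by decide +kernel
    exact this t ht
  · simp only [Bool.and_eq_true, beq_iff_eq]
    exact ⟨h1, h2⟩

theorem c11_of {f A B : ℤ} (h : C11 f A B = true) : c11 f A B = true := by
  unfold C11 at h
  rw [List.any_eq_true] at h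
  obtain ⟨t, ht, h⟩ := h
  simp only [Bool.and_eq_true, beq_iff_eq] at h
  obtain ⟨h1, h2, h3⟩ := h
  unfold c11
  simp only [Bool.or_eq_true, beq_iff_eq]
  simp only [List.mem_cons, List.not_mem_nil, or_false] at ht
  rcases ht with rfl | rfl | rfl | rfl | rfl | rfl | rfl | rfl | rfl <;> dsimp only at h1 h2 h3 <;> omega

/-- the data of an irreducible character -/
theorem dat (χ : IrrCharacter Fi23) {f : ℕ} (hf : (χ : Fi23 → ℂ) 1 = f) : ∃ A B T : ℤ,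
    (χ : Fi23 → ℂ) (el .z) = A ∧ (χ : Fi23 → ℂ) (el .g * el .z) = B ∧ (χ : Fi23 → ℂ) (el .j * el .z) = T ∧
      Dat f A B T := by
  obtain ⟨f', A, B, T, m, ⟨h1, h2, h3, h4⟩, ⟨e1, e2, e3, e4⟩, h5, h6, h7, h8, h9⟩ := vals χ
  have hff : f' = f := by
    rw [hf] at h1
    exact_mod_cast h1.symm
  subst hff
  refine ⟨A, B, T, h2, h3, h4, ?_⟩
  exact {
    v1 := by omega
    v2 := by omega
    s1 := by omega
    s2 := by omega
    r1 := by omega
    r2 := by omega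
    b1 := by omega
    b2 := by omega
    dvd := h6
    rel := h5
    m7 := c7_of h7
    m13 := c13_of h8
    m11 := c11_of h9 }

end Cfsg.Agent.H856.F23
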